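import Cfsg.Agent.KFacts.Co1.RIrr
set_option linter.all false

/-!
# The centraliser in `Co0` of the sign change on an octad is perfect (helper899)

Also: the monomial part `N ⊓ C0 o` has odd index in `Co0`.
-/

set_option autoImplicit false
open Cfsg
open scoped Pointwise commutatorElement

namespace Cfsg.Agent.KFacts.Co1.Perf

open Cfsg.Agent.SporadicA.Co0Mono Cfsg.Agent.SporadicA.Co1Simple
open Cfsg.Agent.SporadicStructure.Co0Base (e8 e8_coe)
open Cfsg.Agent.SporadicStructure.LeechBase (zmod2_cases mem_support₂)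
open Cfsg.Agent.CoOneType.SignFacts (sup mem_sup notMem_sup wt sup_mem wt_cases sup_add_allOne
  wt_add_allOne sign_allOne_comm)
open Cfsg.Agent.CoOneType.CentOctad (C0 mem_C0 sign_mem perm_mem xi_mem exists_sextet sum_single)
open Cfsg.Agent.CoOneType.InvMain (sp_inj sp_mul conj_by_perm conj_by_sign)
open Cfsg.Agent.CoOneType.ClosingFacts (eq_zero_of_wt eq_allOne_of_wt)
open Cfsg.Agent.KFacts.Co1.OctGen (mem_N_of_smul_e8 sign_inj Cl le_of_cl)
open Cfsg.Agent.KFacts.Co1.OctPts Cfsg.Agent.KFacts.Co1.RHat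
open Cfsg.Agent.SporadicA
open Cfsg.Agent.SporadicStructure

variable {o : golayCode}

/-! ### The octad stabiliser in `M24` is perfect -/

theorem perfect_of_equiv {A B : Type*} [Group A] [Group B] (e : A ≃* B)
    (h : commutator B = ⊤) : commutator A = ⊤ := by
  have h1 : (commutator B).map e.symm.toMonoidHom = commutator A := by
    rw [_root_.commutator_def, _root_.commutator_def, Subgroup.map_commutator]
    congr 1 <;> exact Subgroup.map_top_of_surjective _ e.symm.surjective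
  rw [← h1, h]
  exact Subgroup.map_top_of_surjective _ e.symm.surjective

theorem Fo_le_comm (ho : wt o = 8) : Fo o ≤ ⁅So o, So o⁆ := by
  intro u hu
  by_cases h1 : u = 1
  · rw [h1]; exact Subgroup.one_mem _
  obtain ⟨p, hp⟩ := exists_notMem o (by omega)
  have hup : (u : Equiv.Perm GolayPt) p ∉ sup o := Fo_notMem hu hp
  -- a point different from `p` and `u p`
  obtain ⟨q, hq⟩ : ∃ q, q ∉ sup o ∪ {p, (u : Equiv.Perm GolayPt) p} := by
    by_contra hcon
    push Not at hcon
    have h2 : sup o ∪ {p, (u : Equiv.Perm GolayPt) p} = Finset.univ :=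
      Finset.eq_univ_iff_forall.2 hcon
    have h3 := Finset.card_union_le (sup o) {p, (u : Equiv.Perm GolayPt) p}
    rw [h2, MinShapes.card_pt] at h3
    have h4 : (sup o).card = 8 := ho
    have h5 := Finset.card_le_two (a := p) (b := (u : Equiv.Perm GolayPt) p)
    omega
  rw [Finset.mem_union, Finset.mem_insert, Finset.mem_singleton, not_or, not_or] at hq
  obtain ⟨hqo, hqp, hqu⟩ := hq
  obtain ⟨v, hv, hvp⟩ := fo_trans ho hp hqo
  -- `u v` maps `p` to `u q ≠ p`
  have huq : (u : Equiv.Perm GolayPt) q ≠ p := by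
    intro h
    apply hqu
    have h2 := fo_sq ho hu
    rw [← h, ← coe_mul_apply, h2]
    rfl
  obtain ⟨g, hg, hgp, hgq⟩ := two_trans ho hp hqo hp (Fo_notMem hu hqo) (Ne.symm hqp)
    (Ne.symm huq)
  have h2 : g * v * g⁻¹ = u * v := by
    apply fo_eq ho (Fo_conj hg hv) ((Fo o).mul_mem hu hv) hp
    rw [coe_mul_apply, coe_mul_apply, inv_apply_eq hgp, hvp, hgq, coe_mul_apply, hvp]
  have h3 : u = ⁅g, v⁆ := by
    rw [commutatorElement_def, h2, mul_inv_cancel_right]
  rw [h3]
  exact Subgroup.commutator_mem_commutator hg (Fo_le_So hv)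

theorem So_le_comm (ho : wt o = 8) : So o ≤ ⁅So o, So o⁆ := by
  obtain ⟨p, hp⟩ := exists_notMem o (by omega)
  have H := OctadStabFinal.hyp (isOctad ho) hp
  obtain ⟨e⟩ := OctadStabAbs.nonempty_mulEquiv H
  have hperf : commutator (OctadStabAbs.L M24 (sup o) p) = ⊤ :=
    perfect_of_equiv e (commutator_alternatingGroup_eq_top (by simp))
  let f : OctadStabAbs.L M24 (sup o) p →* M24 :=
    { toFun := fun a => ⟨a, (OctadStabAbs.mem_L.1 a.2).1⟩
      map_one' := rfl
      map_mul' := fun _ _ => rfl }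
  have hf : f.range ≤ So o := by
    rintro _ ⟨a, rfl⟩
    rw [mem_So, wordPerm_eq_iff]
    exact (OctadStabAbs.mem_L.1 a.2).2.1
  have hf2 : f.range ≤ ⁅So o, So o⁆ := by
    have h1 : (commutator (OctadStabAbs.L M24 (sup o) p)).map f = ⁅f.range, f.range⁆ := by
      rw [_root_.commutator_def, Subgroup.map_commutator, ← MonoidHom.range_eq_map]
    rw [hperf, ← MonoidHom.range_eq_map] at h1
    rw [h1]
    exact Subgroup.commutator_mono hf hf
  intro σ hσ
  obtain ⟨u, hu, hup⟩ := fo_trans ho ((So_apply hσ p).not.2 hp) hp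
  have h2 : u * σ ∈ f.range := by
    refine ⟨⟨((u * σ : M24) : Equiv.Perm GolayPt), OctadStabAbs.mem_L.2
      ⟨(u * σ : M24).2, So_apply ((So o).mul_mem (Fo_le_So hu) hσ), ?_⟩⟩, rfl⟩
    rw [coe_mul_apply, hup]
  have h3 : σ = u⁻¹ * (u * σ) := by rw [inv_mul_cancel_left]
  rw [h3]
  exact Subgroup.mul_mem _ (Subgroup.inv_mem _ (Fo_le_comm ho hu)) (hf2 h2)

/-- The permutations preserving `o` are in the commutator subgroup of `C0 o`. -/
theorem perm_mem_comm (ho : wt o = 8) {σ : M24} (hσ : σ ∈ So o) :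
    permCo0 σ ∈ ⁅C0 o, C0 o⁆ := by
  have h1 : (⁅So o, So o⁆).map permCo0 ≤ ⁅C0 o, C0 o⁆ := by
    rw [Subgroup.map_commutator]
    have h2 : (So o).map permCo0 ≤ C0 o := by
      rintro _ ⟨τ, hτ, rfl⟩
      exact perm_mem hτ
    exact Subgroup.commutator_mono h2 h2
  exact h1 ⟨σ, So_le_comm ho hσ, rfl⟩

/-! ### The sign changes -/

theorem comm_le (H : Subgroup Co0) : ⁅H, H⁆ ≤ H :=
  (Subgroup.commutator_le_sup H H).trans (sup_le le_rfl le_rfl)

theorem comm_conj {g x : Co0} (hg : g ∈ C0 o) (hx : x ∈ ⁅C0 o, C0 o⁆) :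
    g * x * g⁻¹ ∈ ⁅C0 o, C0 o⁆ := by
  have hle : ⁅C0 o, C0 o⁆ ≤ C0 o := comm_le _
  have h1 : g * x * g⁻¹ = ⁅g, x⁆ * x := by
    rw [commutatorElement_def]; group
  rw [h1]
  exact Subgroup.mul_mem _ (Subgroup.commutator_mem_commutator hg (hle hx)) hx

theorem sign_add_mem (c : golayCode) {σ : M24} (hσ : σ ∈ So o) :
    signCo0 (c + wordPerm σ c) ∈ ⁅C0 o, C0 o⁆ := by
  have h1 : signCo0 (c + wordPerm σ c) = ⁅signCo0 c, permCo0 σ⁆ := by
    rw [commutatorElement_def, mul_assoc (signCo0 c), signCo0_inv, mul_assoc, perm_mul_sign_mul_inv,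
      signCo0_add]
  rw [h1]
  exact Subgroup.commutator_mem_commutator (sign_mem o c) (perm_mem hσ)

/-- Octads disjoint from `o`. -/
theorem sign_mem_disj (ho : wt o = 8) {c : golayCode} (hc : wt c = 8)
    (hco : Disjoint (sup c) (sup o)) : signCo0 c ∈ ⁅C0 o, C0 o⁆ := by
  obtain ⟨S, e, ρ, hS, hSo, he, heo, hρ, hm⟩ := exists_special ho
  obtain ⟨h8, hdis⟩ := moved_sum hρ he (by rw [heo, hS]) hm
  obtain ⟨σ, hσ, rfl⟩ := word_trans_disj ho h8 hc hdis hco
  have h1 := comm_conj (perm_mem hσ) (sign_add_mem e (Fo_le_So hρ))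
  rwa [perm_mul_sign_mul_inv] at h1

theorem sign_mem_disj' (ho : wt o = 8) {c : golayCode} (hco : Disjoint (sup c) (sup o)) :
    signCo0 c ∈ ⁅C0 o, C0 o⁆ := by
  rcases disj_cases ho hco with h | h | h
  · rw [h, signCo0_zero]; exact Subgroup.one_mem _
  · obtain ⟨d, hd, hdo⟩ := exists_disj ho
    obtain ⟨p, hp⟩ : (sup d).Nonempty := by
      rw [← Finset.card_pos]; show 0 < wt d; omega
    obtain ⟨q, hq⟩ := exists_notMem (d + o) (by
      have h := OctPts.wt_add d o
      rw [Finset.disjoint_iff_inter_eq_empty.1 hdo, Finset.card_empty] at h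
      omega)
    rw [OctPts.sup_add, Finset.mem_symmDiff, not_or, not_and_not_right, not_and_not_right] at hq
    have hqd : q ∉ sup d := fun h => Finset.disjoint_left.1 hdo h (hq.1 h)
    have hqo : q ∉ sup o := fun h => hqd (hq.2 h)
    obtain ⟨σ, hσ, hσp⟩ := fo_trans ho (Finset.disjoint_left.1 hdo hp) hqo
    have h2 := sign_add_mem (o := o) d (Fo_le_So hσ)
    rcases fo_word ho hσ hd hdo with h3 | h3
    · exfalso
      apply hqd
      rw [← h3, ← hσp, mem_sup_wordPerm]
      exact hp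
    · rw [h3, ← add_assoc, add_self, zero_add] at h2
      rw [h]; exact h2
  · exact sign_mem_disj ho h hco

/-- For two points of `o` there is an octad word meeting `o` in them whose sign change is a
product of commutators. -/
theorem exists_two (ho : wt o = 8) {a b : GolayPt} (ha : a ∈ sup o) (hb : b ∈ sup o)
    (hab : a ≠ b) : ∃ f : golayCode, signCo0 f ∈ ⁅C0 o, C0 o⁆ ∧ sup f ∩ sup o = {a, b} := by
  classical
  obtain ⟨s, hs, h3⟩ := Finset.exists_subset_card_eq (s := (sup o).erase a |>.erase b) (n := 3)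
    (by
      rw [Finset.card_erase_of_mem (Finset.mem_erase.2 ⟨Ne.symm hab, hb⟩),
        Finset.card_erase_of_mem ha]
      show 3 ≤ wt o - 1 - 1
      omega)
  have hsa : a ∉ s := fun h => by
    have := hs h
    rw [Finset.mem_erase, Finset.mem_erase] at this
    exact this.2.1 rfl
  have hsb : b ∉ s := fun h => by
    have := hs h
    rw [Finset.mem_erase] at this
    exact this.1 rfl
  have hso : s ⊆ sup o := hs.trans ((Finset.erase_subset _ _).trans (Finset.erase_subset _ _))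
  obtain ⟨p, hp⟩ := exists_notMem o (by omega)
  obtain ⟨e, he, heo, hpe⟩ := exists_meet ho (S := insert a s)
    (by rw [Finset.card_insert_of_notMem hsa, h3]) (Finset.insert_subset ha hso) hp
  obtain ⟨e', he', heo', hpe'⟩ := exists_meet ho (S := insert b s)
    (by rw [Finset.card_insert_of_notMem hsb, h3]) (Finset.insert_subset hb hso) hp
  obtain ⟨σ, hσ, hσe⟩ := word_trans ho he he' (by
    rw [Finset.inter_comm, heo, Finset.inter_comm, heo', Finset.card_insert_of_notMem hsa,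
      Finset.card_insert_of_notMem hsb])
  refine ⟨e + wordPerm σ e, sign_add_mem e hσ, ?_⟩
  rw [hσe]
  ext i
  rw [Finset.mem_inter, OctPts.sup_add, Finset.mem_symmDiff, Finset.mem_insert,
    Finset.mem_singleton]
  have h1 : ∀ i ∈ sup o, (i ∈ sup e ↔ i = a ∨ i ∈ s) := fun i hi => by
    have : i ∈ sup e ∩ sup o ↔ i ∈ insert a s := by rw [heo]
    rw [Finset.mem_inter, Finset.mem_insert] at this
    exact ⟨fun h => this.1 ⟨h, hi⟩, fun h => (this.2 h).1⟩
  have h2 : ∀ i ∈ sup o, (i ∈ sup e' ↔ i = b ∨ i ∈ s) := fun i hi => by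
    have : i ∈ sup e' ∩ sup o ↔ i ∈ insert b s := by rw [heo']
    rw [Finset.mem_inter, Finset.mem_insert] at this
    exact ⟨fun h => this.1 ⟨h, hi⟩, fun h => (this.2 h).1⟩
  constructor
  · rintro ⟨h, hi⟩
    rw [h1 i hi, h2 i hi] at h
    tauto
  · rintro (rfl | rfl)
    · refine ⟨Or.inl ⟨(h1 _ ha).2 (Or.inl rfl), ?_⟩, ha⟩
      rw [h2 _ ha]
      rintro (h | h)
      · exact hab h
      · exact hsa h
    · refine ⟨Or.inr ⟨(h2 _ hb).2 (Or.inl rfl), ?_⟩, hb⟩
      rw [h1 _ hb]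
      rintro (h | h)
      · exact hab h.symm
      · exact hsb h

theorem even_inter (c : golayCode) (ho : wt o = 8) : Even (sup c ∩ sup o).card := by
  have h := OctPts.wt_add c o
  rcases wt_cases c with h1 | h1 | h1 | h1 | h1 <;>
    rcases wt_cases (c + o) with h2 | h2 | h2 | h2 | h2 <;>
    · rw [Nat.even_iff]; omega

/-- All sign changes are in the commutator subgroup of `C0 o`. -/
theorem sign_mem_comm (ho : wt o = 8) (c : golayCode) : signCo0 c ∈ ⁅C0 o, C0 o⁆ := by
  classical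
  induction hn : (sup c ∩ sup o).card using Nat.strong_induction_on generalizing c with
  | _ n ih =>
    by_cases h0 : n = 0
    · apply sign_mem_disj' ho
      rw [h0, Finset.card_eq_zero] at hn
      exact Finset.disjoint_iff_inter_eq_empty.2 hn
    · have heven := even_inter c ho
      rw [hn] at heven
      have h2 : 1 < (sup c ∩ sup o).card := by
        obtain ⟨k, hk⟩ := heven
        omega
      obtain ⟨a, ha, b, hb, hab⟩ := Finset.one_lt_card.1 h2
      rw [Finset.mem_inter] at ha hb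
      obtain ⟨f, hf, hfo⟩ := exists_two ho ha.2 hb.2 hab
      have hsub : sup (c + f) ∩ sup o ⊆ (sup c ∩ sup o).erase a := by
        intro i hi
        rw [Finset.mem_inter, OctPts.sup_add, Finset.mem_symmDiff] at hi
        rw [Finset.mem_erase, Finset.mem_inter]
        have hfi : i ∈ sup f ↔ i = a ∨ i = b := by
          have : i ∈ sup f ∩ sup o ↔ i ∈ ({a, b} : Finset GolayPt) := by rw [hfo]
          rw [Finset.mem_inter, Finset.mem_insert, Finset.mem_singleton] at this
          exact ⟨fun h => this.1 ⟨h, hi.2⟩, fun h => (this.2 h).1⟩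
        rw [hfi] at hi
        rcases hi with ⟨⟨h3, h4⟩ | ⟨h3, h4⟩, h5⟩
        · exact ⟨fun h => h4 (Or.inl h), h3, h5⟩
        · rcases h3 with h3 | h3
          · exact absurd (h3 ▸ ha.1) h4
          · exact absurd (h3 ▸ hb.1) h4
      have hlt : (sup (c + f) ∩ sup o).card < n := by
        have h3 := Finset.card_le_card hsub
        rw [Finset.card_erase_of_mem (Finset.mem_inter.2 ha), hn] at h3
        omega
      have h3 := ih _ hlt (c + f) rfl
      have h4 := Subgroup.mul_mem _ h3 hf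
      rwa [← signCo0_add, add_assoc, add_self, add_zero] at h4

/-! ### Orders -/

theorem So_eq : So o = MulAction.stabilizer M24 (sup o) := by
  ext σ
  rw [MulAction.mem_stabilizer_iff, mem_So]
  constructor
  · intro h
    have h1 := sup_wordPerm σ o
    rw [h] at h1
    exact h1.symm
  · intro h
    exact sup_ext ((sup_wordPerm σ o).trans h)

theorem index_So (ho : wt o = 8) : (So o).index = 759 := by
  rw [So_eq, MulAction.index_stabilizer, ← Cfsg.Agent.S0360.result]
  congr 1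
  ext b
  constructor
  · rintro ⟨g, rfl⟩
    exact (GolayPerm.smul_mem_octads g.2).2 (isOctad ho)
  · intro hb
    obtain ⟨g, hg, h⟩ := OctadStab.exists_smul_eq (isOctad ho) hb
    exact ⟨⟨g, hg⟩, h⟩

theorem card_So (ho : wt o = 8) : Nat.card (So o) = 322560 := by
  have h1 := (So o).card_mul_index
  rw [index_So ho, Cfsg.Agent.S0364.result] at h1
  omega

theorem mem_inf_iff {g : Co0} : g ∈ N ⊓ C0 o ↔
    ∃ (c : golayCode) (σ : M24), σ ∈ So o ∧ g = signCo0 c * permCo0 σ := by
  rw [Subgroup.mem_inf]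
  constructor
  · rintro ⟨h1, h2⟩
    obtain ⟨c, σ, rfl⟩ := exists_sign_perm h1
    refine ⟨c, σ, ?_, rfl⟩
    rw [mem_C0, mul_assoc, perm_mul_sign, ← mul_assoc, ← mul_assoc] at h2
    have h3 := mul_right_cancel h2
    rw [← signCo0_add, ← signCo0_add] at h3
    have h4 := sign_inj h3
    rw [add_comm o c] at h4
    exact add_left_cancel h4
  · rintro ⟨c, σ, hσ, rfl⟩
    exact ⟨N.mul_mem (sign_mem_N c) (perm_mem_N σ), (C0 o).mul_mem (sign_mem o c) (perm_mem hσ)⟩

theorem card_inf (ho : wt o = 8) : Nat.card ↥(N ⊓ C0 o) = 4096 * 322560 := by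
  rw [← card_So ho, ← Cfsg.Agent.S0358.card_golayCode, ← Nat.card_prod]
  refine (Nat.card_congr (Equiv.ofBijective
    (fun x : golayCode × So o => (⟨signCo0 x.1 * permCo0 (x.2 : M24), mem_inf_iff.2
      ⟨x.1, x.2, x.2.2, rfl⟩⟩ : ↥(N ⊓ C0 o))) ⟨?_, ?_⟩)).symm
  · rintro ⟨c, σ⟩ ⟨d, τ⟩ h
    have h1 := congrArg (fun x : ↥(N ⊓ C0 o) => (x : Co0)) h
    obtain ⟨h2, h3⟩ := sp_inj h1
    exact Prod.ext h2 (Subtype.ext h3)
  · rintro ⟨g, hg⟩
    obtain ⟨c, σ, hσ, rfl⟩ := mem_inf_iff.1 hg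
    exact ⟨(c, ⟨σ, hσ⟩), rfl⟩

theorem index_inf (ho : wt o = 8) : (N ⊓ C0 o).index = 6293912625 := by
  have h := (N ⊓ C0 o).card_mul_index
  rw [card_inf ho, Cfsg.Agent.S0397.result] at h
  omega

theorem odd_index_C0 (ho : wt o = 8) : Odd (C0 o).index := by
  have h1 : (C0 o).index ∣ (N ⊓ C0 o).index := Subgroup.index_dvd_of_le inf_le_right
  rw [index_inf ho] at h1
  exact Odd.of_dvd_nat (by decide) h1

/-! ### Perfectness -/

theorem mem_of_odd {G : Type*} [Group G] [Finite G] (D : Subgroup G) [D.Normal]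
    (hodd : Odd D.index) {x : G} (hx : x * x ∈ D) : x ∈ D := by
  rw [← QuotientGroup.eq_one_iff]
  have h1 : ((x : G ⧸ D)) ^ 2 = 1 := by
    rw [pow_two, ← QuotientGroup.mk_mul, QuotientGroup.eq_one_iff]
    exact hx
  have h2 : ((x : G ⧸ D)) ^ D.index = 1 := by
    rw [Subgroup.index_eq_card]
    exact pow_card_eq_one'
  have h3 : orderOf (x : G ⧸ D) ∣ 1 := by
    have h4 : Nat.Coprime 2 D.index := (Nat.coprime_two_left).2 hodd
    rw [← h4.gcd_eq_one]
    exact Nat.dvd_gcd (orderOf_dvd_of_pow_eq_one h1) (orderOf_dvd_of_pow_eq_one h2)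
  rw [Nat.dvd_one, orderOf_eq_one_iff] at h3
  exact h3

/-- `C0 o` is perfect. -/
theorem le_comm (ho : wt o = 8) : C0 o ≤ ⁅C0 o, C0 o⁆ := by
  have : Finite Co0 := Cfsg.Agent.CoOneType.FrameFix.finite_co0
  apply le_of_cl _ ho
  refine ⟨sign_mem_comm ho, fun σ hσ => perm_mem_comm ho hσ, ?_⟩
  intro T hT hTo
  have hξ := xi_mem (o := o) hT hTo
  have hN : (N ⊓ C0 o).subgroupOf (C0 o) ≤ commutator (C0 o) := by
    intro g hg
    rw [Subgroup.mem_subgroupOf] at hg
    obtain ⟨c, σ, hσ, h⟩ := mem_inf_iff.1 hg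
    have h1 : (g : Co0) ∈ ⁅C0 o, C0 o⁆ := by
      rw [h]
      exact Subgroup.mul_mem _ (sign_mem_comm ho c) (perm_mem_comm ho hσ)
    have h2 : (commutator (C0 o)).map (C0 o).subtype = ⁅C0 o, C0 o⁆ := by
      rw [_root_.commutator_def, Subgroup.map_commutator, ← MonoidHom.range_eq_map,
        Subgroup.range_subtype]
    rw [← h2] at h1
    obtain ⟨g', hg', h3⟩ := h1
    have h4 : g' = g := Subtype.ext h3
    rw [← h4]; exact hg'
  have hidx : Odd (commutator (C0 o)).index := by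
    refine Odd.of_dvd_nat ?_ (Subgroup.index_dvd_of_le hN)
    have h1 : ((N ⊓ C0 o).subgroupOf (C0 o)).index ∣ (N ⊓ C0 o).index :=
      Subgroup.relIndex_dvd_index_of_le inf_le_right
    rw [index_inf ho] at h1
    exact Odd.of_dvd_nat (by decide) h1
  have h1 : (⟨Xi.xiCo0 T hT, hξ⟩ : C0 o) ∈ commutator (C0 o) := by
    apply mem_of_odd _ hidx
    have h2 : (⟨Xi.xiCo0 T hT, hξ⟩ : C0 o) * ⟨Xi.xiCo0 T hT, hξ⟩ = 1 := by
      apply Subtype.ext
      show Xi.xiCo0 T hT * Xi.xiCo0 T hT = 1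
      apply Co0Mono.ext
      intro v
      apply Subtype.ext
      rw [mul_smul, one_smul, Xi.xiCo0_smul, Xi.xiCo0_smul]
      exact Xi.xiFun_xiFun hT v.2
    rw [h2]
    exact Subgroup.one_mem _
  have h2 : (commutator (C0 o)).map (C0 o).subtype = ⁅C0 o, C0 o⁆ := by
    rw [_root_.commutator_def, Subgroup.map_commutator, ← MonoidHom.range_eq_map,
      Subgroup.range_subtype]
  rw [← h2]
  exact ⟨_, h1, rfl⟩

theorem comm_eq (ho : wt o = 8) : ⁅C0 o, C0 o⁆ = C0 o :=
  le_antisymm (comm_le _) (le_comm ho)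

end Cfsg.Agent.KFacts.Co1.Perf
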