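import Cfsg.Agent.KFacts.Co1.OctGen
import Cfsg.Agent.SporadicStructure.OctadStabFinal
import Cfsg.Agent.SporadicA.OctadFix
import Cfsg.Agent.S1556
import Cfsg.Agent.S0363
import Cfsg.Agent.J2.ExtQuot
set_option linter.all false

-- part: KFacts/Co1/RHat
section
-- merged: Cfsg.Agent.KFacts.Co1.OctPts
section

/-!
# Code words and permutations relative to a fixed octad word (helper899)

`Fo o`: the permutations of `M24` fixing the octad pointwise; `So o`: those preserving it.
Transitivity of `So o` on ordered pairs of points off the octad (`two_trans`), the octads meeting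
`o` in four points, and `fo_word`: an element of `Fo o` maps an octad word disjoint from `o` to
itself or to its complement off `o`.
-/

set_option autoImplicit false
open Cfsg
open scoped Pointwise

namespace Cfsg.Agent.KFacts.Co1.OctPts

open Cfsg.Agent.SporadicA.Co0Mono Cfsg.Agent.SporadicA.Co1Simple
open Cfsg.Agent.SporadicStructure.LeechBase (zmod2_cases mem_support₂)
open Cfsg.Agent.CoOneType.SignFacts (sup mem_sup notMem_sup wt sup_mem wt_cases sup_add_allOne
  wt_add_allOne)
open Cfsg.Agent.CoOneType.ClosingFacts (eq_zero_of_wt)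
open Cfsg.Agent.CoOneType.InvMain (word_ext support_wordPerm)
open Cfsg.Agent.SporadicA
open Cfsg.Agent.SporadicStructure

/-! ### Supports -/

theorem sup_ext {c d : golayCode} (h : sup c = sup d) : c = d := word_ext h

theorem sup_add (c d : golayCode) : sup (c + d) = symmDiff (sup c) (sup d) := by
  ext i
  rw [Finset.mem_symmDiff, mem_sup, mem_sup, mem_sup]
  show (c : GolayPt → ZMod 2) i + (d : GolayPt → ZMod 2) i = 1 ↔ _
  generalize (c : GolayPt → ZMod 2) i = a
  generalize (d : GolayPt → ZMod 2) i = b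
  revert a b
  decide

theorem wt_add (c d : golayCode) : wt (c + d) + 2 * (sup c ∩ sup d).card = wt c + wt d := by
  unfold wt
  rw [sup_add, symmDiff_def, Finset.sup_eq_union, Finset.card_union_of_disjoint
    (disjoint_sdiff_sdiff)]
  have h1 := Finset.card_sdiff_add_card_inter (sup c) (sup d)
  have h2 := Finset.card_sdiff_add_card_inter (sup d) (sup c)
  rw [Finset.inter_comm (sup d)] at h2
  omega

theorem add_self (c : golayCode) : c + c = 0 := by
  apply Subtype.ext
  funext i
  show (c : GolayPt → ZMod 2) i + (c : GolayPt → ZMod 2) i = 0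
  generalize (c : GolayPt → ZMod 2) i = a
  revert a
  decide

theorem eq_of_add {c d : golayCode} (h : c + d = 0) : c = d := by
  have h1 : c + d + d = d := by rw [h, zero_add]
  rw [add_assoc, add_self, add_zero] at h1
  exact h1

theorem inter_cases {c d : golayCode} (hc : wt c = 8) (hd : wt d = 8) :
    (sup c ∩ sup d).card = 0 ∨ (sup c ∩ sup d).card = 2 ∨ (sup c ∩ sup d).card = 4 ∨ c = d := by
  have h := wt_add c d
  rcases wt_cases (c + d) with h1 | h1 | h1 | h1 | h1
  · exact Or.inr (Or.inr (Or.inr (eq_of_add (eq_zero_of_wt h1))))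
  · omega
  · omega
  · omega
  · omega

theorem eq_of_five {c d : golayCode} (hc : wt c = 8) (hd : wt d = 8)
    (h : 5 ≤ (sup c ∩ sup d).card) : c = d := by
  rcases inter_cases hc hd with h1 | h1 | h1 | h1
  · omega
  · omega
  · omega
  · exact h1

/-! ### Permutations -/

theorem mem_sup_wordPerm (σ : M24) (c : golayCode) (i : GolayPt) :
    (σ : Equiv.Perm GolayPt) i ∈ sup (wordPerm σ c) ↔ i ∈ sup c := by
  rw [mem_sup, mem_sup, wordPerm_apply, Equiv.symm_apply_apply]

theorem mem_sup_wordPerm' (σ : M24) (c : golayCode) (i : GolayPt) :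
    i ∈ sup (wordPerm σ c) ↔ (σ : Equiv.Perm GolayPt).symm i ∈ sup c := by
  rw [mem_sup, mem_sup, wordPerm_apply]

theorem sup_wordPerm (σ : M24) (c : golayCode) :
    sup (wordPerm σ c) = (σ : Equiv.Perm GolayPt) • sup c := support_wordPerm σ c

theorem wt_wordPerm (σ : M24) (c : golayCode) : wt (wordPerm σ c) = wt c := by
  unfold wt
  rw [sup_wordPerm, Finset.card_smul_finset]

theorem wordPerm_add (σ : M24) (c d : golayCode) :
    wordPerm σ (c + d) = wordPerm σ c + wordPerm σ d := rfl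

theorem wordPerm_mul (σ τ : M24) (c : golayCode) :
    wordPerm (σ * τ) c = wordPerm σ (wordPerm τ c) := rfl

theorem wordPerm_one (c : golayCode) : wordPerm 1 c = c := rfl

theorem wordPerm_zero (σ : M24) : wordPerm σ 0 = 0 := rfl

theorem wordPerm_inv_eq {σ : M24} {c d : golayCode} (h : wordPerm σ c = d) :
    wordPerm σ⁻¹ d = c := by
  rw [← h, ← wordPerm_mul, inv_mul_cancel, wordPerm_one]

theorem wordPerm_inj {σ : M24} {c d : golayCode} (h : wordPerm σ c = wordPerm σ d) : c = d := by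
  rw [← wordPerm_one c, ← inv_mul_cancel σ, wordPerm_mul, h, ← wordPerm_mul, inv_mul_cancel,
    wordPerm_one]

theorem wordPerm_eq_iff (σ : M24) (c d : golayCode) :
    wordPerm σ c = d ↔ ∀ i, (σ : Equiv.Perm GolayPt) i ∈ sup d ↔ i ∈ sup c := by
  constructor
  · rintro rfl i
    exact mem_sup_wordPerm σ c i
  · intro h
    apply sup_ext
    ext i
    rw [mem_sup_wordPerm', ← h, Equiv.apply_symm_apply]

theorem coe_mul_apply (σ τ : M24) (i : GolayPt) :
    ((σ * τ : M24) : Equiv.Perm GolayPt) i =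
      (σ : Equiv.Perm GolayPt) ((τ : Equiv.Perm GolayPt) i) := rfl

theorem inv_apply_eq {σ : M24} {i j : GolayPt} (h : (σ : Equiv.Perm GolayPt) i = j) :
    ((σ⁻¹ : M24) : Equiv.Perm GolayPt) j = i := by
  rw [← h, ← coe_mul_apply, inv_mul_cancel]
  rfl

variable {o : golayCode}

/-- The permutations preserving the word `o`. -/
def So (o : golayCode) : Subgroup M24 where
  carrier := {σ | wordPerm σ o = o}
  one_mem' := rfl
  mul_mem' := fun {a b} ha hb => by
    show wordPerm (a * b) o = o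
    rw [wordPerm_mul, show wordPerm b o = o from hb]
    exact ha
  inv_mem' := fun {a} ha => wordPerm_inv_eq ha

theorem mem_So {σ : M24} : σ ∈ So o ↔ wordPerm σ o = o := Iff.rfl

theorem So_apply {σ : M24} (h : σ ∈ So o) (i : GolayPt) :
    (σ : Equiv.Perm GolayPt) i ∈ sup o ↔ i ∈ sup o := by
  have h1 := mem_sup_wordPerm σ o i
  rwa [mem_So.1 h] at h1

/-- The permutations fixing the support of `o` pointwise. -/
def Fo (o : golayCode) : Subgroup M24 where
  carrier := {σ | ∀ i ∈ sup o, (σ : Equiv.Perm GolayPt) i = i}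
  one_mem' := fun _ _ => rfl
  mul_mem' := fun {a b} ha hb i hi => by
    show ((a * b : M24) : Equiv.Perm GolayPt) i = i
    rw [coe_mul_apply, hb i hi, ha i hi]
  inv_mem' := fun {a} ha i hi => inv_apply_eq (ha i hi)

theorem mem_Fo {σ : M24} : σ ∈ Fo o ↔ ∀ i ∈ sup o, (σ : Equiv.Perm GolayPt) i = i := Iff.rfl

theorem Fo_le_So : Fo o ≤ So o := by
  intro σ hσ
  rw [mem_So, wordPerm_eq_iff]
  have h1 : ∀ i, i ∈ sup o → (σ : Equiv.Perm GolayPt) i ∈ sup o := fun i hi => by
    rw [mem_Fo.1 hσ i hi]; exact hi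
  intro i
  refine ⟨fun h => ?_, h1 i⟩
  have h2 := mem_Fo.1 ((Fo o).inv_mem hσ) _ h
  rw [← coe_mul_apply, inv_mul_cancel] at h2
  have h3 : i = (σ : Equiv.Perm GolayPt) i := h2
  rw [h3]; exact h

theorem Fo_notMem {σ : M24} (hσ : σ ∈ Fo o) {i : GolayPt} (hi : i ∉ sup o) :
    (σ : Equiv.Perm GolayPt) i ∉ sup o := by
  rwa [So_apply (Fo_le_So hσ)]

/-- `Fo o` is normal in `So o`. -/
theorem Fo_conj {σ τ : M24} (hσ : σ ∈ So o) (hτ : τ ∈ Fo o) : σ * τ * σ⁻¹ ∈ Fo o := by
  intro i hi
  have h1 : ((σ⁻¹ : M24) : Equiv.Perm GolayPt) i ∈ sup o := (So_apply ((So o).inv_mem hσ) i).2 hi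
  rw [coe_mul_apply, coe_mul_apply, mem_Fo.1 hτ _ h1, ← coe_mul_apply, mul_inv_cancel]
  rfl

theorem isOctad (ho : wt o = 8) : sup o ∈ octads := ⟨sup_mem o, ho⟩

/-- `Fo o` is transitive on the points off `o`. -/
theorem fo_trans (ho : wt o = 8) {p q : GolayPt} (hp : p ∉ sup o) (hq : q ∉ sup o) :
    ∃ σ ∈ Fo o, (σ : Equiv.Perm GolayPt) p = q := by
  obtain ⟨g, hg, h1, h2⟩ := M24Frame.exists_fix_octad_map (isOctad ho) hp hq
  exact ⟨⟨g, hg⟩, h1, h2⟩

/-- `Fo o` acts semiregularly off `o`. -/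
theorem fo_eq_one (ho : wt o = 8) {σ : M24} (hσ : σ ∈ Fo o) {p : GolayPt} (hp : p ∉ sup o)
    (h : (σ : Equiv.Perm GolayPt) p = p) : σ = 1 := by
  have H := OctadStabFinal.hyp (isOctad ho) hp
  obtain ⟨s, hs, h6⟩ := Finset.exists_subset_card_eq (s := sup o) (n := 6)
    (by show 6 ≤ wt o; omega)
  exact Subtype.ext (H.hR σ σ.2 (fun x => So_apply (Fo_le_So hσ) x) h s hs h6
    (fun z hz => mem_Fo.1 hσ z (hs hz)))

theorem fo_eq (ho : wt o = 8) {σ τ : M24} (hσ : σ ∈ Fo o) (hτ : τ ∈ Fo o) {p : GolayPt}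
    (hp : p ∉ sup o) (h : (σ : Equiv.Perm GolayPt) p = (τ : Equiv.Perm GolayPt) p) : σ = τ := by
  have h1 : τ⁻¹ * σ = 1 := fo_eq_one ho ((Fo o).mul_mem ((Fo o).inv_mem hτ) hσ) hp (by
    rw [coe_mul_apply, h, ← coe_mul_apply, inv_mul_cancel]
    rfl)
  rw [inv_mul_eq_one] at h1
  exact h1.symm

/-- The elements of `Fo o` are involutions. -/
theorem fo_sq (ho : wt o = 8) {σ : M24} (hσ : σ ∈ Fo o) : σ * σ = 1 := by
  have h := OctadFix.fixOct_sq (isOctad ho) (g := (σ : Equiv.Perm GolayPt))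
    (OctadFix.mem_fixOct.2 ⟨σ.2, mem_Fo.1 hσ⟩)
  exact Subtype.ext h

theorem fo_comm (ho : wt o = 8) {σ τ : M24} (hσ : σ ∈ Fo o) (hτ : τ ∈ Fo o) :
    σ * τ = τ * σ := by
  have h1 := fo_sq ho ((Fo o).mul_mem hσ hτ)
  have h2 := fo_sq ho hσ
  have h3 := fo_sq ho hτ
  calc σ * τ = σ * (σ * τ * (σ * τ)) * τ := by rw [h1, mul_one]
    _ = (σ * σ) * τ * σ * (τ * τ) := by group
    _ = τ * σ := by rw [h2, h3, one_mul, mul_one]

theorem card_fo (ho : wt o = 8) : Nat.card (Fo o) = 16 := by
  rw [← OctadFix.card_fixOct (isOctad ho)]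
  refine Nat.card_congr (Equiv.ofBijective
    (fun σ : Fo o => (⟨((σ : M24) : Equiv.Perm GolayPt),
      OctadFix.mem_fixOct.2 ⟨(σ : M24).2, mem_Fo.1 σ.2⟩⟩ : OctadFix.fixOct (sup o))) ⟨?_, ?_⟩)
  · intro a b hab
    have h1 := congrArg (fun x : OctadFix.fixOct (sup o) => (x : Equiv.Perm GolayPt)) hab
    exact Subtype.ext (Subtype.ext h1)
  · rintro ⟨g, hg⟩
    obtain ⟨h1, h2⟩ := OctadFix.mem_fixOct.1 hg
    exact ⟨⟨⟨g, h1⟩, h2⟩, rfl⟩

/-! ### Octads meeting `o` -/

/-- An octad meeting `o` in a given 4-set and containing a given point off `o`. -/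
theorem exists_meet (ho : wt o = 8) {S : Finset GolayPt} (hS : S.card = 4) (hSo : S ⊆ sup o)
    {p : GolayPt} (hp : p ∉ sup o) : ∃ e : golayCode, wt e = 8 ∧ sup e ∩ sup o = S ∧ p ∈ sup e := by
  have hpS : p ∉ S := fun h => hp (hSo h)
  obtain ⟨b, ⟨hb, hsb⟩, -⟩ := Cfsg.Agent.S0363.result.2 (insert p S) (by
    rw [Finset.card_insert_of_notMem hpS, hS])
  obtain ⟨⟨w, hw, hwb⟩, hb8⟩ := hb
  let e : golayCode := ⟨w, hw⟩
  have he : sup e = b := hwb
  have h8 : wt e = 8 := by unfold wt; rw [he]; exact hb8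
  have hSe : S ⊆ sup e ∩ sup o := by
    rw [he]
    exact Finset.subset_inter ((Finset.subset_insert p S).trans hsb) hSo
  have hpe : p ∈ sup e := by rw [he]; exact hsb (Finset.mem_insert_self p S)
  refine ⟨e, h8, ?_, hpe⟩
  have h4 := Finset.card_le_card hSe
  have hle : (sup e ∩ sup o).card ≤ 4 := by
    rcases inter_cases h8 ho with h | h | h | h
    · omega
    · omega
    · omega
    · exact absurd (h ▸ hpe) hp
  exact (Finset.eq_of_subset_of_card_le hSe (by omega)).symm

/-- Two octads meeting `o` in the same 4-set and sharing a point off `o` are equal. -/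
theorem eq_of_meet {S : Finset GolayPt} (hS : S.card = 4) {e e' : golayCode} (he : wt e = 8)
    (he' : wt e' = 8) (h1 : sup e ∩ sup o = S) (h2 : sup e' ∩ sup o = S) {p : GolayPt}
    (hp : p ∉ sup o) (h3 : p ∈ sup e) (h4 : p ∈ sup e') : e = e' := by
  apply eq_of_five he he'
  have hSo : S ⊆ sup o := h1 ▸ Finset.inter_subset_right
  have hpS : p ∉ S := fun h => hp (hSo h)
  have h5 : insert p S ⊆ sup e ∩ sup e' := by
    intro x hx
    rw [Finset.mem_insert] at hx
    rcases hx with rfl | hx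
    · exact Finset.mem_inter.2 ⟨h3, h4⟩
    · refine Finset.mem_inter.2 ⟨?_, ?_⟩
      · rw [← h1] at hx; exact (Finset.mem_inter.1 hx).1
      · rw [← h2] at hx; exact (Finset.mem_inter.1 hx).1
  have h6 := Finset.card_le_card h5
  rw [Finset.card_insert_of_notMem hpS, hS] at h6
  exact h6

theorem exists_sub_four (ho : wt o = 8) : ∃ S ⊆ sup o, S.card = 4 :=
  Finset.exists_subset_card_eq (by show 4 ≤ wt o; omega)

/-- `So o` is transitive on the ordered pairs of distinct points off `o`. -/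
theorem two_trans (ho : wt o = 8) {p q p' q' : GolayPt} (hp : p ∉ sup o) (hq : q ∉ sup o)
    (hp' : p' ∉ sup o) (hq' : q' ∉ sup o) (hpq : p ≠ q) (hpq' : p' ≠ q') :
    ∃ σ ∈ So o, (σ : Equiv.Perm GolayPt) p = p' ∧ (σ : Equiv.Perm GolayPt) q = q' := by
  classical
  -- a 4-subset of `o` whose octad through `p` contains `q`
  have key : ∀ p q : GolayPt, p ∉ sup o → q ∉ sup o → p ≠ q → ∃ e : golayCode, wt e = 8 ∧
      (sup e ∩ sup o).card = 4 ∧ p ∈ sup e ∧ q ∈ sup e := by
    intro p q hp hq hpq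
    obtain ⟨s, hs, h3⟩ := Finset.exists_subset_card_eq (s := sup o) (n := 3)
      (by show 3 ≤ wt o; omega)
    have hps : p ∉ s := fun h => hp (hs h)
    have hqs : q ∉ s := fun h => hq (hs h)
    obtain ⟨b, ⟨hb, hsb⟩, -⟩ := Cfsg.Agent.S0363.result.2 (insert p (insert q s)) (by
      rw [Finset.card_insert_of_notMem (by
        rw [Finset.mem_insert, not_or]; exact ⟨hpq, hps⟩), Finset.card_insert_of_notMem hqs, h3])
    obtain ⟨⟨w, hw, hwb⟩, hb8⟩ := hb
    let e : golayCode := ⟨w, hw⟩
    have he : sup e = b := hwb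
    have h8 : wt e = 8 := by unfold wt; rw [he]; exact hb8
    have hpe : p ∈ sup e := by rw [he]; exact hsb (Finset.mem_insert_self _ _)
    have hqe : q ∈ sup e := by
      rw [he]; exact hsb (Finset.mem_insert_of_mem (Finset.mem_insert_self _ _))
    have hse : s ⊆ sup e ∩ sup o := by
      rw [he]
      refine Finset.subset_inter ?_ hs
      exact (Finset.subset_insert q s).trans ((Finset.subset_insert p _).trans hsb)
    refine ⟨e, h8, ?_, hpe, hqe⟩
    have h4 := Finset.card_le_card hse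
    rcases inter_cases h8 ho with h | h | h | h
    · omega
    · omega
    · exact h
    · exact absurd (h ▸ hpe) hp
  obtain ⟨e, he, he4, hpe, hqe⟩ := key p q hp hq hpq
  obtain ⟨e', he', he4', hpe', hqe'⟩ := key p' q' hp' hq' hpq'
  -- enumerations
  let f : Fin 4 ≃ ↥(sup e ∩ sup o) := (Fintype.equivFinOfCardEq (by
    rw [Fintype.card_coe, he4])).symm
  let f' : Fin 4 ≃ ↥(sup e' ∩ sup o) := (Fintype.equivFinOfCardEq (by
    rw [Fintype.card_coe, he4'])).symm
  let a : Fin 6 → GolayPt := Fin.append (fun i => (f i : GolayPt)) ![p, q]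
  let a' : Fin 6 → GolayPt := Fin.append (fun i => (f' i : GolayPt)) ![p', q']
  have hinj : ∀ (e : golayCode) (f : Fin 4 ≃ ↥(sup e ∩ sup o)) (p q : GolayPt), p ∉ sup o →
      q ∉ sup o → p ≠ q → Function.Injective
        (Fin.append (fun i => (f i : GolayPt)) ![p, q] : Fin 6 → GolayPt) := by
    intro e f p q hp hq hpq
    have hfo : ∀ i, (f i : GolayPt) ∈ sup o := fun i => (Finset.mem_inter.1 (f i).2).2
    have hpq' : ∀ k : Fin 2, (![p, q] k) ∉ sup o := by
      intro k; fin_cases k
      · exact hp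
      · exact hq
    rw [Fin.append_injective_iff]
    refine ⟨fun i j h => f.injective (Subtype.ext h), ?_, ?_⟩
    · intro i j h
      fin_cases i <;> fin_cases j
      · rfl
      · exact absurd h hpq
      · exact absurd h.symm hpq
      · rfl
    · intro i j h
      exact hpq' j (h ▸ hfo i)
  have hmem : ∀ (e : golayCode) (f : Fin 4 ≃ ↥(sup e ∩ sup o)) (p q : GolayPt), p ∈ sup e →
      q ∈ sup e → ∀ i : Fin 6, (Fin.append (fun i => (f i : GolayPt)) ![p, q] : Fin 6 → GolayPt) i
        ∈ sup e := by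
    intro e f p q hp hq i
    refine Fin.addCases (m := 4) (n := 2) (fun i => ?_) (fun i => ?_) i
    · rw [Fin.append_left]
      exact (Finset.mem_inter.1 (f i).2).1
    · rw [Fin.append_right]
      fin_cases i
      · exact hp
      · exact hq
  -- points of `o` off `e`
  have hex : ∀ e : golayCode, (sup e ∩ sup o).card = 4 → ∃ r ∈ sup o, r ∉ sup e := by
    intro e h4
    by_contra hcon
    push Not at hcon
    have h5 : sup o ⊆ sup e ∩ sup o := fun x hx => Finset.mem_inter.2 ⟨hcon x hx, hx⟩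
    have h6 := Finset.card_le_card h5
    rw [h4] at h6
    have h7 : (sup o).card = 8 := ho
    omega
  obtain ⟨r, hr, hre⟩ := hex e he4
  obtain ⟨r', hr', hre'⟩ := hex e' he4'
  obtain ⟨g, ⟨hg, hga, hgr⟩, -⟩ := M24Frame.exists_unique_frame_map (isOctad he) (isOctad he')
    (hinj e f p q hp hq hpq) (hinj e' f' p' q' hp' hq' hpq') (hmem e f p q hpe hqe)
    (hmem e' f' p' q' hpe' hqe') hre hre'
  let σ : M24 := ⟨g, hg⟩
  have hgf : ∀ i, g (f i) = f' i := by
    intro i
    have h := hga (Fin.castAdd 2 i)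
    rwa [Fin.append_left, Fin.append_left] at h
  have hgp : g p = p' := by
    have h := hga (Fin.natAdd 4 (0 : Fin 2))
    rwa [Fin.append_right, Fin.append_right] at h
  have hgq : g q = q' := by
    have h := hga (Fin.natAdd 4 (1 : Fin 2))
    rwa [Fin.append_right, Fin.append_right] at h
  refine ⟨σ, ?_, hgp, hgq⟩
  rw [mem_So]
  apply eq_of_five (by rw [wt_wordPerm]; exact ho) ho
  have h5 : insert r' (sup e' ∩ sup o) ⊆ sup (wordPerm σ o) ∩ sup o := by
    intro x hx
    rw [Finset.mem_insert] at hx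
    rcases hx with rfl | hx
    · refine Finset.mem_inter.2 ⟨?_, hr'⟩
      rw [← hgr]
      exact (mem_sup_wordPerm σ o r).2 hr
    · refine Finset.mem_inter.2 ⟨?_, (Finset.mem_inter.1 hx).2⟩
      obtain ⟨i, hi⟩ := f'.surjective ⟨x, hx⟩
      have h6 : x = g (f i) := by rw [hgf, hi]
      rw [h6]
      exact (mem_sup_wordPerm σ o _).2 (Finset.mem_inter.1 (f i).2).2
  have h6 := Finset.card_le_card h5
  rw [Finset.card_insert_of_notMem (fun h => hre' (Finset.mem_inter.1 h).1), he4'] at h6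
  exact h6

/-! ### The words disjoint from `o` -/

/-- A nontrivial element of `Fo o` moves an octad meeting `o` in four points. -/
theorem exists_moved (ho : wt o = 8) {σ : M24} (hσ : σ ∈ Fo o) (h1 : σ ≠ 1) :
    ∃ e : golayCode, wt e = 8 ∧ (sup e ∩ sup o).card = 4 ∧ wordPerm σ e ≠ e := by
  classical
  obtain ⟨p, hp⟩ : ∃ p, p ∉ sup o := by
    by_contra hcon
    push Not at hcon
    have h2 : sup o = Finset.univ := Finset.eq_univ_iff_forall.2 hcon
    have h3 : (sup o).card = 8 := ho
    rw [h2, MinShapes.card_pt] at h3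
    omega
  have hq : (σ : Equiv.Perm GolayPt) p ≠ p := fun h => h1 (fo_eq_one ho hσ hp h)
  have hqo : (σ : Equiv.Perm GolayPt) p ∉ sup o := Fo_notMem hσ hp
  obtain ⟨s, hs, h3⟩ := Finset.exists_subset_card_eq (s := sup o) (n := 3)
    (by show 3 ≤ wt o; omega)
  have hd : (sup o \ s).card = 5 := by
    rw [Finset.card_sdiff_of_subset hs, h3]
    show wt o - 3 = 5
    omega
  obtain ⟨x, hx, y, hy, hxy⟩ := Finset.one_lt_card.1 (show 1 < (sup o \ s).card by omega)
  rw [Finset.mem_sdiff] at hx hy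
  have hS : ∀ x ∈ sup o, x ∉ s → (insert x s).card = 4 ∧ insert x s ⊆ sup o := fun x hx hxs =>
    ⟨by rw [Finset.card_insert_of_notMem hxs, h3], Finset.insert_subset hx hs⟩
  obtain ⟨hSx, hSxo⟩ := hS x hx.1 hx.2
  obtain ⟨hSy, hSyo⟩ := hS y hy.1 hy.2
  obtain ⟨e, he, heo, hpe⟩ := exists_meet ho hSx hSxo hp
  obtain ⟨e', he', heo', hpe'⟩ := exists_meet ho hSy hSyo hp
  by_cases hm : wordPerm σ e = e
  · by_cases hm' : wordPerm σ e' = e'
    · exfalso
      have hqe : (σ : Equiv.Perm GolayPt) p ∈ sup e := by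
        rw [← hm]; exact (mem_sup_wordPerm σ e p).2 hpe
      have hqe' : (σ : Equiv.Perm GolayPt) p ∈ sup e' := by
        rw [← hm']; exact (mem_sup_wordPerm σ e' p).2 hpe'
      have hse : s ⊆ sup e := fun z hz => by
        have : z ∈ sup e ∩ sup o := by rw [heo]; exact Finset.mem_insert_of_mem hz
        exact (Finset.mem_inter.1 this).1
      have hse' : s ⊆ sup e' := fun z hz => by
        have : z ∈ sup e' ∩ sup o := by rw [heo']; exact Finset.mem_insert_of_mem hz
        exact (Finset.mem_inter.1 this).1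
      have h5 : insert p (insert ((σ : Equiv.Perm GolayPt) p) s) ⊆ sup e ∩ sup e' := by
        refine Finset.subset_inter ?_ ?_
        · exact Finset.insert_subset hpe (Finset.insert_subset hqe hse)
        · exact Finset.insert_subset hpe' (Finset.insert_subset hqe' hse')
      have h6 := Finset.card_le_card h5
      rw [Finset.card_insert_of_notMem (by
        rw [Finset.mem_insert, not_or]; exact ⟨fun h => hq h.symm, fun h => hp (hs h)⟩),
        Finset.card_insert_of_notMem (fun h => hqo (hs h)), h3] at h6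
      have h7 : e = e' := eq_of_five he he' h6
      have h8 : insert x s = insert y s := by rw [← heo, ← heo', h7]
      have h9 : x ∈ insert y s := by rw [← h8]; exact Finset.mem_insert_self _ _
      rw [Finset.mem_insert] at h9
      rcases h9 with h9 | h9
      · exact hxy h9
      · exact hx.2 h9
    · exact ⟨e', he', by rw [heo', hSy], hm'⟩
  · exact ⟨e, he, by rw [heo, hSx], hm⟩

/-- `e + σ e` is an octad disjoint from `o` when `σ ∈ Fo o` moves the octad `e` meeting `o` in
four points. -/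
theorem moved_sum {σ : M24} (hσ : σ ∈ Fo o) {e : golayCode} (he : wt e = 8)
    (h4 : (sup e ∩ sup o).card = 4) (hm : wordPerm σ e ≠ e) :
    wt (e + wordPerm σ e) = 8 ∧ Disjoint (sup (e + wordPerm σ e)) (sup o) := by
  have hiff : ∀ i ∈ sup o, (i ∈ sup (wordPerm σ e) ↔ i ∈ sup e) := by
    intro i hi
    have h := mem_sup_wordPerm σ e i
    rwa [mem_Fo.1 hσ i hi] at h
  have hdis : Disjoint (sup (e + wordPerm σ e)) (sup o) := by
    rw [Finset.disjoint_left]
    intro i hi hio
    rw [sup_add, Finset.mem_symmDiff] at hi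
    rcases hi with ⟨h1, h2⟩ | ⟨h1, h2⟩
    · exact h2 ((hiff i hio).2 h1)
    · exact h2 ((hiff i hio).1 h1)
  refine ⟨?_, hdis⟩
  have hw := wt_add e (wordPerm σ e)
  rw [wt_wordPerm] at hw
  have hsub : sup e ∩ sup o ⊆ sup e ∩ sup (wordPerm σ e) := by
    intro i hi
    rw [Finset.mem_inter] at hi ⊢
    exact ⟨hi.1, (hiff i hi.2).2 hi.1⟩
  have hcard := Finset.card_le_card hsub
  rcases inter_cases he (by rw [wt_wordPerm]; exact he : wt (wordPerm σ e) = 8) with h | h | h | h
  · omega
  · omega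
  · omega
  · exact absurd h.symm hm

/-- `So o` is transitive on the octad words with given intersection with `o`. -/
theorem word_trans (ho : wt o = 8) {c d : golayCode} (hc : wt c = 8) (hd : wt d = 8)
    (h : (sup o ∩ sup c).card = (sup o ∩ sup d).card) : ∃ σ ∈ So o, wordPerm σ c = d := by
  obtain ⟨g, hg, h1, h2⟩ := Cfsg.Agent.S1556.result (sup o) (sup c) (sup d) (isOctad ho)
    (isOctad hc) (isOctad hd) h
  refine ⟨⟨g, hg⟩, ?_, ?_⟩
  · exact sup_ext ((sup_wordPerm _ _).trans h1)
  · exact sup_ext ((sup_wordPerm _ _).trans h2)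

theorem word_trans_disj (ho : wt o = 8) {c d : golayCode} (hc : wt c = 8) (hd : wt d = 8)
    (hco : Disjoint (sup c) (sup o)) (hdo : Disjoint (sup d) (sup o)) :
    ∃ σ ∈ So o, wordPerm σ c = d := by
  refine word_trans ho hc hd ?_
  rw [Finset.disjoint_iff_inter_eq_empty.1 hco.symm, Finset.disjoint_iff_inter_eq_empty.1 hdo.symm]

theorem exists_notMem (c : golayCode) (hc : wt c < 24) : ∃ p, p ∉ sup c := by
  by_contra hcon
  push Not at hcon
  have h2 : sup c = Finset.univ := Finset.eq_univ_iff_forall.2 hcon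
  have h3 : wt c = 24 := by
    unfold wt
    rw [h2, MinShapes.card_pt]
  omega

/-- There is an octad disjoint from `o` of the form `e + ρ e`, with all the information. -/
theorem exists_special (ho : wt o = 8) : ∃ (S : Finset GolayPt) (e : golayCode) (ρ : M24),
    S.card = 4 ∧ S ⊆ sup o ∧ wt e = 8 ∧ sup e ∩ sup o = S ∧ ρ ∈ Fo o ∧ wordPerm ρ e ≠ e := by
  classical
  obtain ⟨S, hSo, hS⟩ := exists_sub_four ho
  obtain ⟨p, hp⟩ := exists_notMem o (by omega)
  obtain ⟨e, he, heo, hpe⟩ := exists_meet ho hS hSo hp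
  obtain ⟨q, hq⟩ : ∃ q, q ∉ sup e ∪ sup o := by
    by_contra hcon
    push Not at hcon
    have h2 : sup e ∪ sup o = Finset.univ := Finset.eq_univ_iff_forall.2 hcon
    have h3 := Finset.card_union_le (sup e) (sup o)
    rw [h2, MinShapes.card_pt] at h3
    have h4 : (sup e).card = 8 := he
    have h5 : (sup o).card = 8 := ho
    omega
  rw [Finset.mem_union, not_or] at hq
  obtain ⟨ρ, hρ, hρp⟩ := fo_trans ho hp hq.2
  refine ⟨S, e, ρ, hS, hSo, he, heo, hρ, fun h => hq.1 ?_⟩
  rw [← h, ← hρp]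
  exact (mem_sup_wordPerm ρ e p).2 hpe

/-- An octad disjoint from `o`. -/
theorem exists_disj (ho : wt o = 8) : ∃ d : golayCode, wt d = 8 ∧ Disjoint (sup d) (sup o) := by
  obtain ⟨S, e, ρ, hS, hSo, he, heo, hρ, hm⟩ := exists_special ho
  exact ⟨_, moved_sum hρ he (by rw [heo, hS]) hm⟩

/-- An element of `Fo o` maps an octad disjoint from `o` to itself or to its complement off `o`. -/
theorem fo_word (ho : wt o = 8) {τ : M24} (hτ : τ ∈ Fo o) {c : golayCode} (hc : wt c = 8)
    (hco : Disjoint (sup c) (sup o)) :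
    wordPerm τ c = c ∨ wordPerm τ c = c + (o + allOne) := by
  classical
  obtain ⟨S, e, ρ, hS, hSo, he, heo, hρ, hm⟩ := exists_special ho
  have h4 : (sup e ∩ sup o).card = 4 := by rw [heo, hS]
  obtain ⟨hd8, hdo⟩ := moved_sum hρ he h4 hm
  set d := e + wordPerm ρ e with hd
  -- the claim for `d`
  have hclaim : ∀ τ ∈ Fo o, wordPerm τ d = d ∨ wordPerm τ d = d + (o + allOne) := by
    intro τ hτ
    have hcomm : wordPerm τ (wordPerm ρ e) = wordPerm ρ (wordPerm τ e) := by
      rw [← wordPerm_mul, ← wordPerm_mul, fo_comm ho hτ hρ]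
    have hτd : wordPerm τ d = wordPerm τ e + wordPerm ρ (wordPerm τ e) := by
      rw [hd, wordPerm_add, hcomm]
    have hρρ : ∀ c : golayCode, wordPerm ρ (wordPerm ρ c) = c := fun c => by
      rw [← wordPerm_mul, fo_sq ho hρ, wordPerm_one]
    by_cases h1 : wordPerm τ e = e
    · left; rw [hτd, h1]
    by_cases h2 : wordPerm τ e = wordPerm ρ e
    · left; rw [hτd, h2, hρρ, add_comm]
    right
    -- intersections with `o`
    have hSσ : ∀ σ ∈ Fo o, ∀ c : golayCode, sup c ∩ sup o = S → sup (wordPerm σ c) ∩ sup o = S := by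
      intro σ hσ c hc
      rw [← hc]
      ext i
      rw [Finset.mem_inter, Finset.mem_inter]
      refine and_congr_left fun hi => ?_
      have h := mem_sup_wordPerm σ c i
      rwa [mem_Fo.1 hσ i hi] at h
    have hs2 := hSσ ρ hρ e heo
    have hs3 := hSσ τ hτ e heo
    have hs4 := hSσ ρ hρ _ hs3
    have hm' : wordPerm ρ (wordPerm τ e) ≠ wordPerm τ e := by
      intro h
      rw [← hcomm] at h
      exact hm (wordPerm_inj h)
    have h5 : wordPerm ρ (wordPerm τ e) ≠ e := by
      intro h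
      apply h2
      rw [← hρρ (wordPerm τ e), h]
    have h6 : wordPerm ρ (wordPerm τ e) ≠ wordPerm ρ e := fun h => h1 (wordPerm_inj h)
    have hd' := moved_sum hρ (e := wordPerm τ e) (by rw [wt_wordPerm]; exact he)
      (by rw [hs3, hS]) hm'
    rw [← hτd] at hd'
    have hne : ∀ a b : golayCode, wt a = 8 → wt b = 8 → sup a ∩ sup o = S → sup b ∩ sup o = S →
        a ≠ b → ∀ i, i ∉ sup o → i ∈ sup a → i ∈ sup b → False :=
      fun a b ha hb ha' hb' hab i hi hia hib => hab (eq_of_meet hS ha hb ha' hb' hi hia hib)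
    have w2 : wt (wordPerm ρ e) = 8 := by rw [wt_wordPerm]; exact he
    have w3 : wt (wordPerm τ e) = 8 := by rw [wt_wordPerm]; exact he
    have w4 : wt (wordPerm ρ (wordPerm τ e)) = 8 := by rw [wt_wordPerm]; exact w3
    have hdd : sup d ∩ sup (wordPerm τ d) = ∅ := by
      rw [Finset.eq_empty_iff_forall_notMem]
      intro i hi
      rw [Finset.mem_inter] at hi
      have hio : i ∉ sup o := Finset.disjoint_left.1 hdo hi.1
      have hi1 := hi.1
      have hi2 := hi.2
      rw [hd, sup_add, Finset.mem_symmDiff] at hi1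
      rw [hτd, sup_add, Finset.mem_symmDiff] at hi2
      rcases hi1 with ⟨a1, -⟩ | ⟨a1, -⟩ <;> rcases hi2 with ⟨a2, -⟩ | ⟨a2, -⟩
      · exact hne _ _ he w3 heo hs3 (fun h => h1 h.symm) i hio a1 a2
      · exact hne _ _ he w4 heo hs4 (fun h => h5 h.symm) i hio a1 a2
      · exact hne _ _ w2 w3 hs2 hs3 (fun h => h2 h.symm) i hio a1 a2
      · exact hne _ _ w2 w4 hs2 hs4 (fun h => h6 h.symm) i hio a1 a2
    have hw := wt_add d (wordPerm τ d)
    rw [hdd, Finset.card_empty, hd'.1, hd8] at hw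
    have hsum : d + wordPerm τ d = o + allOne := by
      apply sup_ext
      apply Finset.eq_of_subset_of_card_le
      · rw [sup_add_allOne]
        intro i hi
        rw [Finset.mem_compl]
        rw [sup_add, Finset.mem_symmDiff] at hi
        rcases hi with ⟨a1, -⟩ | ⟨a1, -⟩
        · exact Finset.disjoint_left.1 hdo a1
        · exact Finset.disjoint_left.1 hd'.2 a1
      · have h7 := wt_add_allOne o
        show wt (o + allOne) ≤ wt (d + wordPerm τ d)
        omega
    rw [← hsum, ← add_assoc, add_self, zero_add]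
  obtain ⟨σ, hσ, hσd⟩ := word_trans_disj ho hd8 hc hdo hco
  have hconj : σ⁻¹ * τ * σ ∈ Fo o := by
    have := Fo_conj ((So o).inv_mem hσ) hτ
    rwa [inv_inv] at this
  have hτc : wordPerm τ c = wordPerm σ (wordPerm (σ⁻¹ * τ * σ) d) := by
    rw [← hσd, ← wordPerm_mul, ← wordPerm_mul]
    congr 1
    group
  rcases hclaim _ hconj with h | h
  · left; rw [hτc, h, hσd]
  · right
    rw [hτc, h, wordPerm_add, hσd, wordPerm_add, mem_So.1 hσ]
    rfl

/-- The nonzero words disjoint from `o`. -/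
theorem disj_cases (ho : wt o = 8) {c : golayCode} (hco : Disjoint (sup c) (sup o)) :
    c = 0 ∨ c = o + allOne ∨ wt c = 8 := by
  have hw := wt_add c o
  rw [Finset.disjoint_iff_inter_eq_empty.1 hco, Finset.card_empty, ho] at hw
  rcases wt_cases c with h | h | h | h | h
  · exact Or.inl (eq_zero_of_wt h)
  · exact Or.inr (Or.inr h)
  · rcases wt_cases (c + o) with h1 | h1 | h1 | h1 | h1 <;> omega
  · right; left
    have h1 : wt (c + o) = 24 := by omega
    have h2 := Cfsg.Agent.CoOneType.ClosingFacts.eq_allOne_of_wt h1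
    rw [← h2, ← add_assoc, add_comm o c, add_assoc, add_self, add_zero]
  · rcases wt_cases (c + o) with h1 | h1 | h1 | h1 | h1 <;> omega

theorem fo_word' (ho : wt o = 8) {τ : M24} (hτ : τ ∈ Fo o) {c : golayCode}
    (hco : Disjoint (sup c) (sup o)) :
    c + wordPerm τ c = 0 ∨ c + wordPerm τ c = o + allOne := by
  rcases disj_cases ho hco with rfl | rfl | h
  · left; rw [wordPerm_zero, add_zero]
  · left
    rw [wordPerm_add, mem_So.1 (Fo_le_So hτ)]
    exact add_self _
  · rcases fo_word ho hτ h hco with h1 | h1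
    · left; rw [h1, add_self]
    · right; rw [h1, ← add_assoc, add_self, zero_add]

/-- Octads disjoint from `o` separate the points off `o`. -/
theorem exists_sep (ho : wt o = 8) {p q : GolayPt} (hp : p ∉ sup o) (hq : q ∉ sup o)
    (hpq : p ≠ q) : ∃ c : golayCode, wt c = 8 ∧ Disjoint (sup c) (sup o) ∧ p ∈ sup c ∧
      q ∉ sup c := by
  classical
  obtain ⟨d, hd, hdo⟩ := exists_disj ho
  obtain ⟨p0, hp0⟩ : (sup d).Nonempty := by
    rw [← Finset.card_pos]; show 0 < wt d; omega
  obtain ⟨q0, hq0⟩ := exists_notMem (d + o) (by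
    have h := wt_add d o
    rw [Finset.disjoint_iff_inter_eq_empty.1 hdo, Finset.card_empty] at h
    omega)
  rw [sup_add, Finset.mem_symmDiff, not_or, not_and_not_right, not_and_not_right] at hq0
  have hp0o : p0 ∉ sup o := Finset.disjoint_left.1 hdo hp0
  have hq0d : q0 ∉ sup d := fun h => Finset.disjoint_left.1 hdo h (hq0.1 h)
  have hq0o : q0 ∉ sup o := fun h => hq0d (hq0.2 h)
  obtain ⟨σ, hσ, h1, h2⟩ := two_trans ho hp0o hq0o hp hq (fun h => hq0d (h ▸ hp0)) hpq
  refine ⟨wordPerm σ d, by rw [wt_wordPerm]; exact hd, ?_, ?_, ?_⟩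
  · rw [Finset.disjoint_left]
    intro i hi hio
    rw [mem_sup_wordPerm'] at hi
    have h3 := Finset.disjoint_left.1 hdo hi
    apply h3
    rw [← So_apply hσ, Equiv.apply_symm_apply]
    exact hio
  · rw [← h1, mem_sup_wordPerm]; exact hp0
  · rw [← h2, mem_sup_wordPerm]; exact hq0d

end Cfsg.Agent.KFacts.Co1.OctPts

end

-- merged: Cfsg.Agent.KFacts.Co1.RHat
section

/-!
# The extraspecial group `2^{1+8}` in the centraliser of an octad sign change (helper899)

`Rh o` is the pointwise stabiliser in `Co0` of the lattice vectors supported on the octad `o`. It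
consists of the monomial elements `ε_c σ` with `c` disjoint from `o` and `σ` fixing `o` pointwise.
We show: `Rh o` is normalised by `C0 o`, is extraspecial, its centraliser in `Co0` is
`{1, -1, ε_o, -ε_o}`, and a subgroup of `Rh o` normalised by `C0 o` is `Rh o` or is contained in
the centre `⟨-ε_o⟩`.
-/

set_option autoImplicit false
open Cfsg
open scoped Pointwise

namespace Cfsg.Agent.KFacts.Co1.RHat

open Cfsg.Agent.SporadicA.Co0Mono Cfsg.Agent.SporadicA.Co1Simple
open Cfsg.Agent.SporadicStructure.Co0Base (e8 e8_coe)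
open Cfsg.Agent.SporadicStructure.LeechBase (zmod2_cases mem_support₂)
open Cfsg.Agent.CoOneType.SignFacts (sup mem_sup notMem_sup wt sup_mem wt_cases sup_add_allOne
  wt_add_allOne sign_allOne_comm)
open Cfsg.Agent.CoOneType.CentOctad (C0 mem_C0 sign_mem perm_mem xi_mem exists_sextet)
open Cfsg.Agent.CoOneType.InvMain (sp_inj sp_mul conj_by_perm conj_by_sign)
open Cfsg.Agent.CoOneType.ClosingFacts (eq_zero_of_wt eq_allOne_of_wt)
open Cfsg.Agent.KFacts.Co1.OctGen (mem_N_of_smul_e8 sign_inj)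
open Cfsg.Agent.KFacts.Co1.OctPts
open Cfsg.Agent.SporadicA
open Cfsg.Agent.SporadicStructure

variable {o : golayCode}

/-- The pointwise stabiliser of the lattice vectors supported on `o`. -/
def Rh (o : golayCode) : Subgroup Co0 where
  carrier := {g | ∀ x : leechLattice, signCo0 o • x = -x → g • x = x}
  one_mem' := fun _ _ => one_smul _ _
  mul_mem' := fun {a b} ha hb x hx => by
    show (a * b) • x = x
    rw [mul_smul, hb x hx, ha x hx]
  inv_mem' := fun {a} ha x hx => by
    show a⁻¹ • x = x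
    rw [inv_smul_eq_iff]
    exact (ha x hx).symm

theorem mem_Rh {g : Co0} : g ∈ Rh o ↔ ∀ x : leechLattice, signCo0 o • x = -x → g • x = x :=
  Iff.rfl

theorem sign_smul_e8_of_mem {c : golayCode} {i : GolayPt} (hi : i ∈ sup c) :
    signCo0 c • e8 i = -e8 i := by
  apply Subtype.ext
  funext j
  rw [signCo0_smul, signMap_apply]
  show _ = -((e8 i : leechLattice) : GolayPt → ℤ) j
  rw [e8_coe]
  by_cases hj : j = i
  · subst hj
    rw [(mem_sup c j).1 hi, sgn_one]
    ring
  · rw [Pi.single_eq_of_ne hj]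
    ring

theorem sign_smul_e8_of_notMem {c : golayCode} {i : GolayPt} (hi : i ∉ sup c) :
    signCo0 c • e8 i = e8 i := by
  apply Subtype.ext
  funext j
  rw [signCo0_smul, signMap_apply, e8_coe]
  by_cases hj : j = i
  · subst hj
    rw [(notMem_sup c j).1 hi, sgn_zero, one_mul]
  · rw [Pi.single_eq_of_ne hj]
    ring

/-- The vectors negated by `ε_c` are those supported on `c`. -/
theorem sign_neg_iff (c : golayCode) (x : leechLattice) :
    signCo0 c • x = -x ↔ ∀ i, i ∉ sup c → (x : GolayPt → ℤ) i = 0 := by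
  constructor
  · intro h i hi
    have h1 : ((signCo0 c • x : leechLattice) : GolayPt → ℤ) i = -(x : GolayPt → ℤ) i :=
      congrArg (fun u : leechLattice => (u : GolayPt → ℤ) i) h
    rw [signCo0_smul, signMap_apply, (notMem_sup c i).1 hi, sgn_zero] at h1
    omega
  · intro h
    apply Subtype.ext
    funext i
    rw [signCo0_smul, signMap_apply]
    show _ = -(x : GolayPt → ℤ) i
    by_cases hi : i ∈ sup c
    · rw [(mem_sup c i).1 hi, sgn_one]; ring
    · rw [h i hi]; ring

theorem eight_nsmul (x : leechLattice) :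
    (8 : ℕ) • x = ∑ i, (x : GolayPt → ℤ) i • e8 i := by
  apply Subtype.ext
  funext j
  have h1 : ((∑ i, (x : GolayPt → ℤ) i • e8 i : leechLattice) : GolayPt → ℤ) j =
      ∑ i, (x : GolayPt → ℤ) i * ((e8 i : leechLattice) : GolayPt → ℤ) j := by
    have h2 : ∀ (s : Finset GolayPt), ((∑ i ∈ s, (x : GolayPt → ℤ) i • e8 i : leechLattice) :
        GolayPt → ℤ) j = ∑ i ∈ s, (x : GolayPt → ℤ) i * ((e8 i : leechLattice) : GolayPt → ℤ) j := by
      intro s
      classical
      induction s using Finset.induction_on with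
      | empty => simp
      | insert a s ha ih =>
        rw [Finset.sum_insert ha, Finset.sum_insert ha]
        show ((x : GolayPt → ℤ) a • ((e8 a : leechLattice) : GolayPt → ℤ)) j + _ = _
        rw [ih, Pi.smul_apply, smul_eq_mul]
    exact h2 Finset.univ
  rw [h1]
  show (8 : ℕ) • (x : GolayPt → ℤ) j = _
  rw [Finset.sum_eq_single j]
  · rw [e8_coe, Pi.single_eq_same, nsmul_eq_mul]
    ring
  · intro i _ hij
    rw [e8_coe, Pi.single_eq_of_ne (Ne.symm hij), mul_zero]
  · intro h; exact absurd (Finset.mem_univ _) h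

theorem nsmul_inj {x y : leechLattice} (h : (8 : ℕ) • x = (8 : ℕ) • y) : x = y := by
  apply Subtype.ext
  funext j
  have h1 := congrArg (fun u : leechLattice => (u : GolayPt → ℤ) j) h
  have h2 : (8 : ℕ) • (x : GolayPt → ℤ) j = (8 : ℕ) • (y : GolayPt → ℤ) j := h1
  rw [nsmul_eq_mul, nsmul_eq_mul] at h2
  have h3 : ((8 : ℕ) : ℤ) = 8 := rfl
  rw [h3] at h2
  omega

theorem mem_Rh_iff {g : Co0} : g ∈ Rh o ↔ ∀ i ∈ sup o, g • e8 i = e8 i := by
  constructor
  · intro h i hi
    exact h _ (sign_smul_e8_of_mem hi)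
  · intro h x hx
    rw [sign_neg_iff] at hx
    apply nsmul_inj
    rw [← smul_nsmul, eight_nsmul]
    have h1 : g • (∑ i, (x : GolayPt → ℤ) i • e8 i : leechLattice) =
        toHom g (∑ i, (x : GolayPt → ℤ) i • e8 i) := rfl
    rw [h1, map_sum]
    refine Finset.sum_congr rfl fun i _ => ?_
    rw [map_zsmul, toHom_apply]
    by_cases hi : i ∈ sup o
    · rw [h i hi]
    · rw [hx i hi, zero_smul, zero_smul]

/-- `C0 o` normalises `Rh o`. -/
theorem Rh_conj {g r : Co0} (hg : g ∈ C0 o) (hr : r ∈ Rh o) : g * r * g⁻¹ ∈ Rh o := by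
  intro x hx
  have hg' : g⁻¹ ∈ C0 o := (C0 o).inv_mem hg
  rw [mem_C0] at hg'
  have h1 : signCo0 o • (g⁻¹ • x) = -(g⁻¹ • x) := by
    rw [← mul_smul, ← hg', mul_smul, hx, Co0Mono.smul_neg]
  rw [mul_smul, mul_smul, mem_Rh.1 hr _ h1, smul_inv_smul]

/-- The elements of `Rh o`. -/
theorem mem_Rh_sp {c : golayCode} {σ : M24} (hc : Disjoint (sup c) (sup o)) (hσ : σ ∈ Fo o) :
    signCo0 c * permCo0 σ ∈ Rh o := by
  rw [mem_Rh_iff]
  intro i hi
  rw [mul_smul, perm_smul_e8, mem_Fo.1 hσ i hi]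
  exact sign_smul_e8_of_notMem (fun h => Finset.disjoint_left.1 hc h hi)

theorem exists_of_mem_Rh (ho : wt o = 8) {g : Co0} (hg : g ∈ Rh o) :
    ∃ (c : golayCode) (σ : M24), Disjoint (sup c) (sup o) ∧ σ ∈ Fo o ∧
      g = signCo0 c * permCo0 σ := by
  have h := mem_Rh_iff.1 hg
  obtain ⟨i₀, hi₀⟩ : (sup o).Nonempty := by
    rw [← Finset.card_pos]; show 0 < wt o; omega
  obtain ⟨c, σ, rfl⟩ := exists_sign_perm (mem_N_of_smul_e8 (h i₀ hi₀))
  have h1 : ∀ i ∈ sup o, (σ : Equiv.Perm GolayPt) i = i ∧ i ∉ sup c := by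
    intro i hi
    have h2 := h i hi
    rw [mul_smul, perm_smul_e8] at h2
    by_cases hc : (σ : Equiv.Perm GolayPt) i ∈ sup c
    · rw [sign_smul_e8_of_mem hc] at h2
      exact absurd h2.symm (e8_ne_neg _ _)
    · rw [sign_smul_e8_of_notMem hc] at h2
      have h3 := e8_inj h2
      exact ⟨h3, h3 ▸ hc⟩
  refine ⟨c, σ, ?_, fun i hi => (h1 i hi).1, rfl⟩
  rw [Finset.disjoint_right]
  exact fun i hi => (h1 i hi).2

theorem sign_mem_Rh {c : golayCode} (hc : Disjoint (sup c) (sup o)) : signCo0 c ∈ Rh o := by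
  have h := mem_Rh_sp hc (Fo o).one_mem
  rwa [map_one, mul_one] at h

theorem perm_mem_Rh {σ : M24} (hσ : σ ∈ Fo o) : permCo0 σ ∈ Rh o := by
  have h := mem_Rh_sp (o := o) (c := 0) (by
    rw [Finset.disjoint_left]
    intro i hi
    rw [mem_sup] at hi
    have h0 : (0 : ZMod 2) = 1 := hi
    exact absurd h0 (by decide)) hσ
  rwa [signCo0_zero, one_mul] at h

/-- The complement of `o`. -/
theorem disj_compl (o : golayCode) : Disjoint (sup (o + allOne)) (sup o) := by
  rw [sup_add_allOne]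
  exact disjoint_compl_left

theorem Rh_le_C0 (ho : wt o = 8) : Rh o ≤ C0 o := by
  intro g hg
  obtain ⟨c, σ, hc, hσ, rfl⟩ := exists_of_mem_Rh ho hg
  exact (C0 o).mul_mem (sign_mem o c) (perm_mem (Fo_le_So hσ))

/-- Two elements of `Rh o` commute or their commutator is `ε` of the complement of `o`. -/
theorem Rh_mul (ho : wt o = 8) {r s : Co0} (hr : r ∈ Rh o) (hs : s ∈ Rh o) :
    r * s = s * r ∨ r * s = signCo0 (o + allOne) * (s * r) := by
  obtain ⟨c, σ, hc, hσ, rfl⟩ := exists_of_mem_Rh ho hr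
  obtain ⟨d, τ, hd, hτ, rfl⟩ := exists_of_mem_Rh ho hs
  rw [sp_mul, sp_mul, fo_comm ho hσ hτ]
  have key : c + wordPerm σ d = (c + wordPerm τ c) + (d + wordPerm σ d) + (d + wordPerm τ c) := by
    have : (c + wordPerm τ c) + (d + wordPerm σ d) + (d + wordPerm τ c) =
        c + wordPerm σ d + (d + d) + (wordPerm τ c + wordPerm τ c) := by abel
    rw [this, add_self, add_self, add_zero, add_zero]
  rw [key, signCo0_add, mul_assoc]
  rcases fo_word' ho hτ hc with h1 | h1 <;> rcases fo_word' ho hσ hd with h2 | h2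
  · left; rw [h1, h2, add_zero, signCo0_zero, one_mul]
  · right; rw [h1, h2, zero_add]
  · right; rw [h1, h2, add_zero]
  · left; rw [h1, h2, add_self, signCo0_zero, one_mul]

theorem Rh_sq (ho : wt o = 8) {r : Co0} (hr : r ∈ Rh o) :
    r * r = 1 ∨ r * r = signCo0 (o + allOne) := by
  obtain ⟨c, σ, hc, hσ, rfl⟩ := exists_of_mem_Rh ho hr
  rw [sp_mul, fo_sq ho hσ, map_one, mul_one]
  rcases fo_word' ho hσ hc with h1 | h1
  · left; rw [h1, signCo0_zero]
  · right; rw [h1]

/-- An element of `Co0` mapping some `8 e_j` to `± 8 e_j` is monomial. -/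
theorem mem_N_of_smul_e8' {g : Co0} {i : GolayPt} (h : g • e8 i = e8 i ∨ g • e8 i = -e8 i) :
    g ∈ N := by
  rcases h with h | h
  · exact mem_N_of_smul_e8 h
  · have h1 : signCo0 allOne * g ∈ N := by
      apply mem_N_of_smul_e8 (i := i)
      rw [mul_smul, h, Co0Mono.smul_neg, sign_smul_e8_of_mem (c := allOne) (i := i) (by
        rw [mem_sup]; rfl), neg_neg]
    have h2 : g = signCo0 allOne * (signCo0 allOne * g) := by
      rw [← mul_assoc, signCo0_mul_self, one_mul]
    rw [h2]
    exact N.mul_mem (sign_mem_N _) h1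

/-- The centraliser of `Rh o` in `Co0`. -/
theorem centralizer_Rh (ho : wt o = 8) {g : Co0} (hg : ∀ r ∈ Rh o, g * r = r * g) :
    g = 1 ∨ g = signCo0 allOne ∨ g = signCo0 o ∨ g = signCo0 (o + allOne) := by
  classical
  -- `g` maps `8 e_j` to `± 8 e_j` for `j` off `o`
  have hline : ∀ j, j ∉ sup o → g • e8 j = e8 j ∨ g • e8 j = -e8 j := by
    intro j hj
    set x : leechLattice := g • e8 j with hx
    have hsep : ∀ c : golayCode, Disjoint (sup c) (sup o) → j ∈ sup c → signCo0 c • x = -x := by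
      intro c hc hjc
      rw [hx, ← mul_smul, ← hg _ (sign_mem_Rh hc), mul_smul, sign_smul_e8_of_mem hjc,
        Co0Mono.smul_neg]
    have hzero : ∀ k, k ≠ j → (x : GolayPt → ℤ) k = 0 := by
      intro k hk
      by_cases hko : k ∈ sup o
      · exact (sign_neg_iff _ _).1 (hsep (o + allOne) (disj_compl o) (by
          rw [sup_add_allOne, Finset.mem_compl]; exact hj)) k (by
          rw [sup_add_allOne, Finset.mem_compl, not_not]; exact hko)
      · obtain ⟨c, -, hc, hjc, hkc⟩ := exists_sep ho hj hko (Ne.symm hk)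
        exact (sign_neg_iff _ _).1 (hsep c hc hjc) k hkc
    have hn : sqNorm (x : GolayPt → ℤ) = 64 := by
      rw [hx, sqNorm_smul]; exact sqNorm_e8 j
    have hn' : sqNorm (x : GolayPt → ℤ) = (x : GolayPt → ℤ) j ^ 2 := by
      show ∑ i, (x : GolayPt → ℤ) i ^ 2 = _
      rw [Finset.sum_eq_single j]
      · intro k _ hk; rw [hzero k hk]; ring
      · intro h; exact absurd (Finset.mem_univ _) h
    have h8 : (x : GolayPt → ℤ) j = 8 ∨ (x : GolayPt → ℤ) j = -8 := by
      have : (x : GolayPt → ℤ) j ^ 2 = 8 ^ 2 := by rw [← hn', hn]; norm_num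
      exact sq_eq_sq_iff_eq_or_eq_neg.1 this
    rcases h8 with h8 | h8
    · left
      apply Subtype.ext
      funext k
      rw [e8_coe, Pi.single_apply]
      by_cases hk : k = j
      · rw [if_pos hk, hk, h8]
      · rw [if_neg hk, hzero k hk]
    · right
      apply Subtype.ext
      funext k
      show _ = -((e8 j : leechLattice) : GolayPt → ℤ) k
      rw [e8_coe, Pi.single_apply]
      by_cases hk : k = j
      · rw [if_pos hk, hk, h8]
      · rw [if_neg hk, hzero k hk, neg_zero]
  obtain ⟨p, hp⟩ := exists_notMem o (by omega)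
  obtain ⟨d, σ, rfl⟩ := exists_sign_perm (mem_N_of_smul_e8' (hline p hp))
  have hσ : ∀ j, j ∉ sup o → (σ : Equiv.Perm GolayPt) j = j := by
    intro j hj
    have h1 := hline j hj
    rw [mul_smul, perm_smul_e8] at h1
    rcases sgn_smul_e8 d ((σ : Equiv.Perm GolayPt) j) with h2 | h2
    · rw [h2] at h1
      exact e8_inj' h1
    · rw [h2, neg_inj] at h1
      rcases h1 with h1 | h1
      · exact absurd h1.symm (e8_ne_neg _ _)
      · exact e8_inj h1
  have hσ1 : σ = 1 := by
    obtain ⟨c, hc, hco⟩ := exists_disj ho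
    obtain ⟨q, hq⟩ := exists_notMem (c + o) (by
      have h := OctPts.wt_add c o
      rw [Finset.disjoint_iff_inter_eq_empty.1 hco, Finset.card_empty] at h
      omega)
    rw [sup_add, Finset.mem_symmDiff, not_or, not_and_not_right, not_and_not_right] at hq
    have hqc : q ∉ sup c := fun h => Finset.disjoint_left.1 hco h (hq.1 h)
    have hqo : q ∉ sup o := fun h => hqc (hq.2 h)
    exact fo_eq_one hc (σ := σ) (fun i hi => hσ i (Finset.disjoint_left.1 hco hi)) hqc (hσ q hqo)
  subst hσ1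
  rw [map_one, mul_one] at hg ⊢
  have hd : ∀ τ ∈ Fo o, wordPerm τ d = d := by
    intro τ hτ
    have h1 := hg _ (perm_mem_Rh hτ)
    rw [perm_mul_sign] at h1
    exact (sign_inj (mul_right_cancel h1)).symm
  by_cases hdo : ∃ i ∈ sup d, i ∉ sup o
  · obtain ⟨i, hi, hio⟩ := hdo
    have hall : ∀ j, j ∉ sup o → j ∈ sup d := by
      intro j hj
      obtain ⟨τ, hτ, hτi⟩ := fo_trans ho hio hj
      rw [← hd τ hτ, ← hτi, mem_sup_wordPerm]
      exact hi
    have hsub : sup (d + allOne) ⊆ sup o := by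
      intro j hj
      rw [sup_add_allOne, Finset.mem_compl] at hj
      by_contra hcon
      exact hj (hall j hcon)
    have hc := Finset.card_le_card hsub
    have hc' : wt (d + allOne) ≤ wt o := hc
    rcases wt_cases (d + allOne) with h | h | h | h | h
    · right; left
      have h1 := eq_zero_of_wt h
      rw [eq_of_add h1]
    · right; right; right
      have h1 : sup (d + allOne) = sup o := Finset.eq_of_subset_of_card_le hsub (by
        show wt o ≤ wt (d + allOne); omega)
      have h2 := sup_ext h1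
      rw [← h2, add_assoc, add_self, add_zero]
    · omega
    · omega
    · omega
  · push Not at hdo
    have hc : wt d ≤ wt o := Finset.card_le_card hdo
    rcases wt_cases d with h | h | h | h | h
    · left
      rw [eq_zero_of_wt h, signCo0_zero]
    · right; right; left
      have h1 : sup d = sup o := Finset.eq_of_subset_of_card_le hdo (by
        show wt o ≤ wt d; omega)
      rw [sup_ext h1]
    · omega
    · omega
    · omega

end Cfsg.Agent.KFacts.Co1.RHat

end
end

-- part: KFacts/Co1/RIrr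
section
/-!
# The group `Rh o` is extraspecial and its central quotient is irreducible (helper899)
-/

set_option autoImplicit false
open Cfsg
open scoped Pointwise

namespace Cfsg.Agent.KFacts.Co1.RIrr

open Cfsg.Agent.SporadicA.Co0Mono Cfsg.Agent.SporadicA.Co1Simple
open Cfsg.Agent.SporadicStructure.Co0Base (e8 e8_coe)
open Cfsg.Agent.SporadicStructure.LeechBase (zmod2_cases mem_support₂)
open Cfsg.Agent.CoOneType.SignFacts (sup mem_sup notMem_sup wt sup_mem wt_cases sup_add_allOne
  wt_add_allOne sign_allOne_comm)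
open Cfsg.Agent.CoOneType.CentOctad (C0 mem_C0 sign_mem perm_mem xi_mem exists_sextet sum_single)
open Cfsg.Agent.CoOneType.InvMain (sp_inj sp_mul conj_by_perm conj_by_sign)
open Cfsg.Agent.CoOneType.ClosingFacts (eq_zero_of_wt eq_allOne_of_wt)
open Cfsg.Agent.KFacts.Co1.OctGen (mem_N_of_smul_e8 sign_inj)
open Cfsg.Agent.KFacts.Co1.OctPts Cfsg.Agent.KFacts.Co1.RHat
open Cfsg.Agent.SporadicA
open Cfsg.Agent.SporadicStructure

variable {o : golayCode}

theorem nonempty_sup (ho : wt o = 8) : (sup o).Nonempty := by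
  rw [← Finset.card_pos]; show 0 < wt o; omega

theorem allOne_notMem (ho : wt o = 8) : signCo0 allOne ∉ Rh o := by
  intro h
  obtain ⟨i, hi⟩ := nonempty_sup ho
  have h1 := mem_Rh_iff.1 h i hi
  rw [sign_smul_e8_of_mem (c := allOne) (i := i) (by rw [mem_sup]; rfl)] at h1
  exact e8_ne_neg i i h1.symm

theorem sign_notMem (ho : wt o = 8) : signCo0 o ∉ Rh o := by
  intro h
  obtain ⟨i, hi⟩ := nonempty_sup ho
  have h1 := mem_Rh_iff.1 h i hi
  rw [sign_smul_e8_of_mem hi] at h1
  exact e8_ne_neg i i h1.symm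

theorem omega_mem : signCo0 (o + allOne) ∈ Rh o := sign_mem_Rh (disj_compl o)

theorem omega_ne_one (ho : wt o = 8) : signCo0 (o + allOne) ≠ 1 := by
  intro h
  rw [← signCo0_zero] at h
  have h1 := sign_inj h
  have h2 := wt_add_allOne o
  have h3 : wt (0 : golayCode) = 0 := by
    unfold wt
    rw [Finset.card_eq_zero, Finset.eq_empty_iff_forall_notMem]
    intro i hi
    rw [mem_sup] at hi
    have h0 : (0 : ZMod 2) = 1 := hi
    exact absurd h0 (by decide)
  rw [h1, h3] at h2
  omega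

theorem omega_comm {g : Co0} (hg : g ∈ C0 o) :
    signCo0 (o + allOne) * g = g * signCo0 (o + allOne) := by
  rw [signCo0_add, mul_assoc, ← sign_allOne_comm, ← mul_assoc, ← mem_C0.1 hg, mul_assoc]

/-- There is a noncommuting pair in `Rh o`. -/
theorem exists_noncomm (ho : wt o = 8) : ∃ r ∈ Rh o, ∃ s ∈ Rh o, r * s ≠ s * r := by
  obtain ⟨p, hp⟩ := exists_notMem o (by omega)
  obtain ⟨q, hq⟩ := exists_notMem (o : golayCode) (by omega)
  -- two distinct points off `o`
  obtain ⟨d, hd, hdo⟩ := exists_disj ho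
  obtain ⟨p, hp⟩ := nonempty_sup hd
  obtain ⟨q, hq⟩ := exists_notMem (d + o) (by
    have h := OctPts.wt_add d o
    rw [Finset.disjoint_iff_inter_eq_empty.1 hdo, Finset.card_empty] at h
    omega)
  rw [sup_add, Finset.mem_symmDiff, not_or, not_and_not_right, not_and_not_right] at hq
  have hqd : q ∉ sup d := fun h => Finset.disjoint_left.1 hdo h (hq.1 h)
  have hqo : q ∉ sup o := fun h => hqd (hq.2 h)
  obtain ⟨σ, hσ, hσp⟩ := fo_trans ho (Finset.disjoint_left.1 hdo hp) hqo
  refine ⟨_, sign_mem_Rh hdo, _, perm_mem_Rh hσ, ?_⟩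
  rw [perm_mul_sign]
  intro h
  have h1 := sign_inj (mul_right_cancel h)
  apply hqd
  rw [h1, ← hσp, mem_sup_wordPerm]
  exact hp

theorem center_iff (ho : wt o = 8) (r : Rh o) :
    r ∈ Subgroup.center (Rh o) ↔ (r : Co0) = 1 ∨ (r : Co0) = signCo0 (o + allOne) := by
  rw [Subgroup.mem_center_iff]
  constructor
  · intro h
    have h1 : ∀ s ∈ Rh o, (r : Co0) * s = s * r := fun s hs =>
      (congrArg Subtype.val (h ⟨s, hs⟩)).symm
    rcases centralizer_Rh ho h1 with h2 | h2 | h2 | h2
    · exact Or.inl h2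
    · exact absurd (h2 ▸ r.2) (allOne_notMem ho)
    · exact absurd (h2 ▸ r.2) (sign_notMem ho)
    · exact Or.inr h2
  · intro h s
    apply Subtype.ext
    show (s : Co0) * r = r * s
    rcases h with h | h
    · rw [h, one_mul, mul_one]
    · rw [h, omega_comm (Rh_le_C0 ho s.2)]

/-- `Rh o` is extraspecial. -/
theorem isExtraspecial (ho : wt o = 8) : IsExtraspecial 2 (Rh o) := by
  have : Finite Co0 := Cfsg.Agent.CoOneType.FrameFix.finite_co0
  have hsq : ∀ x : Rh o, x ^ 2 ∈ Subgroup.center (Rh o) := by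
    intro x
    rw [center_iff ho, pow_two]
    exact Rh_sq ho x.2
  apply Cfsg.Agent.J2.ExtQuot.isExtraspecial_two
  · intro x
    refine ⟨2, Subtype.ext ?_⟩
    show (x : Co0) ^ (2 ^ 2) = 1
    rw [pow_two 2, pow_mul, pow_two, pow_two]
    rcases Rh_sq ho x.2 with h | h
    · rw [h, one_mul]
    · rw [h, signCo0_mul_self]
  · rw [Nat.card_eq_two_iff]
    refine ⟨⟨1, Subgroup.one_mem _⟩, ⟨⟨signCo0 (o + allOne), omega_mem⟩,
      (center_iff ho _).2 (Or.inr rfl)⟩, ?_, ?_⟩
    · intro h
      have h1 := congrArg (fun x : Subgroup.center (Rh o) => ((x : Rh o) : Co0)) h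
      exact omega_ne_one ho h1.symm
    · rw [Set.eq_univ_iff_forall]
      rintro ⟨x, hx⟩
      rcases (center_iff ho x).1 hx with h | h
      · left; exact Subtype.ext (Subtype.ext h)
      · right; exact Subtype.ext (Subtype.ext h)
  · exact hsq
  · obtain ⟨r, hr, s, hs, hne⟩ := exists_noncomm ho
    exact ⟨⟨r, hr⟩, ⟨s, hs⟩, fun h => hne (congrArg Subtype.val h)⟩

/-- The image of `8 e_p` under `ξ_T` has nonzero coordinates on the tetrad of `p`. -/
theorem xi_e8_ne {T : GolayPt → Fin 6} {p j : GolayPt} (h : T j = T p) :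
    Xi.xiFun T (Pi.single p 8) j ≠ 0 := by
  have hs : ∑ k ∈ Xi.fib T (T j), (Pi.single p 8 : GolayPt → ℤ) k = 8 := by
    rw [sum_single, if_pos (Xi.mem_fib.2 h.symm)]
  rw [Xi.xiFun_apply, hs, Pi.single_apply]
  split_ifs <;> norm_num

/-- The subgroups of `Rh o` normalised by `C0 o`. -/
theorem irr (ho : wt o = 8) (W : Subgroup Co0) (hW : W ≤ Rh o)
    (hn : ∀ g ∈ C0 o, ∀ w ∈ W, g * w * g⁻¹ ∈ W)
    (hne : ∃ w ∈ W, w ≠ 1 ∧ w ≠ signCo0 (o + allOne)) : Rh o ≤ W := by
  classical
  -- an octad sign change in `W`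
  obtain ⟨c, hc, hco, hcW⟩ : ∃ c : golayCode, wt c = 8 ∧ Disjoint (sup c) (sup o) ∧
      signCo0 c ∈ W := by
    obtain ⟨w, hw, hw1, hw2⟩ := hne
    obtain ⟨c, σ, hc, hσ, rfl⟩ := exists_of_mem_Rh ho (hW hw)
    by_cases hσ1 : σ = 1
    · subst hσ1
      rw [map_one, mul_one] at hw hw1 hw2
      refine ⟨c, ?_, hc, hw⟩
      rcases disj_cases ho hc with h | h | h
      · exact absurd (by rw [h, signCo0_zero]) hw1
      · exact absurd (by rw [h]) hw2
      · exact h
    · obtain ⟨e, he, he4, hem⟩ := exists_moved ho hσ hσ1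
      obtain ⟨h8, hdis⟩ := moved_sum hσ he he4 hem
      refine ⟨_, h8, hdis, ?_⟩
      have h1 := hn _ (sign_mem o e) _ hw
      rw [conj_by_sign] at h1
      have h2 := W.mul_mem h1 (W.inv_mem hw)
      have h3 : signCo0 (c + (e + wordPerm σ e)) * permCo0 σ * (signCo0 c * permCo0 σ)⁻¹ =
          signCo0 (e + wordPerm σ e) := by
        rw [mul_inv_rev, mul_assoc, ← mul_assoc (permCo0 σ), mul_inv_cancel, one_mul,
          signCo0_inv, ← signCo0_add]
        congr 1
        rw [add_comm c, add_assoc, add_self, add_zero]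
      rwa [h3] at h2
  have hoct : ∀ d : golayCode, wt d = 8 → Disjoint (sup d) (sup o) → signCo0 d ∈ W := by
    intro d hd hdo
    obtain ⟨σ, hσ, rfl⟩ := word_trans_disj ho hc hd hco hdo
    have h1 := hn _ (perm_mem hσ) _ hcW
    rwa [perm_mul_sign_mul_inv] at h1
  have hsign : ∀ d : golayCode, Disjoint (sup d) (sup o) → signCo0 d ∈ W := by
    intro d hdo
    rcases disj_cases ho hdo with h | h | h
    · rw [h, signCo0_zero]; exact W.one_mem
    · have h1 : Disjoint (sup (c + (o + allOne))) (sup o) := by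
        rw [Finset.disjoint_left]
        intro i hi hio
        rw [sup_add, Finset.mem_symmDiff] at hi
        rcases hi with ⟨h1, -⟩ | ⟨h1, -⟩
        · exact Finset.disjoint_left.1 hco h1 hio
        · exact Finset.disjoint_left.1 (disj_compl o) h1 hio
      have h2 : wt (c + (o + allOne)) = 8 := by
        rcases disj_cases ho h1 with h3 | h3 | h3
        · have h4 := eq_of_add h3
          have h5 := wt_add_allOne o
          rw [← h4] at h5
          omega
        · exfalso
          have h4 : c = 0 := by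
            have h5 : c + (o + allOne) + (o + allOne) = (o + allOne) + (o + allOne) := by rw [h3]
            rw [add_assoc, add_self, add_zero] at h5
            exact h5
          have h5 := omega_ne_one ho
          have h6 := wt_add_allOne (0 : golayCode)
          have h7 : wt (0 : golayCode) = 8 := h4 ▸ hc
          rcases wt_cases ((0 : golayCode) + allOne) with h8 | h8 | h8 | h8 | h8
          · omega
          · omega
          · omega
          · have h9 : wt (0 : golayCode) = 0 := by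
              unfold wt
              rw [Finset.card_eq_zero, Finset.eq_empty_iff_forall_notMem]
              intro i hi
              rw [mem_sup] at hi
              have h0 : (0 : ZMod 2) = 1 := hi
              exact absurd h0 (by decide)
            omega
          · omega
        · exact h3
      have h3 := W.mul_mem hcW (hoct _ h2 h1)
      rw [← signCo0_add, ← add_assoc, add_self, zero_add] at h3
      rw [h]; exact h3
    · exact hoct d h hdo
  -- a nontrivial permutation part
  obtain ⟨w, hw, σ, hσ, hσ1, d, hdo, hwd⟩ : ∃ w ∈ W, ∃ σ ∈ Fo o, σ ≠ 1 ∧ ∃ d : golayCode,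
      Disjoint (sup d) (sup o) ∧ w = signCo0 d * permCo0 σ := by
    by_contra hcon
    push Not at hcon
    have hall : ∀ w ∈ W, ∃ d : golayCode, w = signCo0 d := by
      intro w hw
      obtain ⟨d, σ, hd, hσ, h⟩ := exists_of_mem_Rh ho (hW hw)
      by_cases h1 : σ = 1
      · refine ⟨d, ?_⟩
        rw [h, h1, map_one, mul_one]
      · exact absurd h (hcon w hw σ hσ h1 d hd)
    obtain ⟨S, hSo, hS⟩ := exists_sub_four ho
    obtain ⟨T, hT, hT0, hTo, -⟩ := exists_sextet ho hS hSo
    obtain ⟨p, hp⟩ := exists_notMem o (by omega)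
    obtain ⟨j, hj, hjp⟩ : ∃ j ∈ Xi.fib T (T p), j ≠ p :=
      Finset.exists_mem_ne (by rw [hT.card]; norm_num) p
    rw [Xi.mem_fib] at hj
    have hjo : j ∉ sup o := by
      rw [notMem_sup, hTo j p hj, ← notMem_sup]; exact hp
    obtain ⟨e, he, heo, hpe, hje⟩ := exists_sep ho hp hjo (Ne.symm hjp)
    have hξ := xi_mem (o := o) hT hTo
    obtain ⟨d, hd⟩ := hall _ (hn _ ((C0 o).inv_mem hξ) _ (hsign e heo))
    rw [inv_inv] at hd
    have hmul : signCo0 e * Xi.xiCo0 T hT = Xi.xiCo0 T hT * signCo0 d := by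
      rw [← hd]; group
    have hx : signCo0 e • (Xi.xiCo0 T hT • e8 p) = Xi.xiCo0 T hT • e8 p ∨
        signCo0 e • (Xi.xiCo0 T hT • e8 p) = -(Xi.xiCo0 T hT • e8 p) := by
      rw [← mul_smul, hmul, mul_smul]
      rcases sgn_smul_e8 d p with h | h
      · left; rw [h]
      · right; rw [h, Co0Mono.smul_neg]
    have hcoord : ∀ k, ((signCo0 e • (Xi.xiCo0 T hT • e8 p) : leechLattice) : GolayPt → ℤ) k =
        sgn ((e : GolayPt → ZMod 2) k) * Xi.xiFun T (Pi.single p 8) k := by
      intro k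
      rw [signCo0_smul, signMap_apply, Xi.xiCo0_smul, e8_coe]
    have hp' : Xi.xiFun T (Pi.single p 8) p ≠ 0 := xi_e8_ne rfl
    have hj' : Xi.xiFun T (Pi.single p 8) j ≠ 0 := xi_e8_ne hj
    rcases hx with h | h
    · have h1 := hcoord p
      rw [h, (mem_sup e p).1 hpe, sgn_one, Xi.xiCo0_smul, e8_coe] at h1
      apply hp'
      linarith
    · have h1 := hcoord j
      rw [h, (notMem_sup e j).1 hje, sgn_zero] at h1
      have h2 : -(Xi.xiFun T (Pi.single p 8) j) = 1 * Xi.xiFun T (Pi.single p 8) j := by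
        rw [← h1]
        show _ = -((Xi.xiCo0 T hT • e8 p : leechLattice) : GolayPt → ℤ) j
        rw [Xi.xiCo0_smul, e8_coe]
      apply hj'
      linarith
  have hperm : permCo0 σ ∈ W := by
    have h1 := W.mul_mem (hsign d hdo) hw
    rwa [hwd, ← mul_assoc, signCo0_mul_self, one_mul] at h1
  have hperms : ∀ τ ∈ Fo o, permCo0 τ ∈ W := by
    intro τ hτ
    by_cases hτ1 : τ = 1
    · rw [hτ1, map_one]; exact W.one_mem
    obtain ⟨p, hp⟩ := exists_notMem o (by omega)
    have hσp : (σ : Equiv.Perm GolayPt) p ≠ p := fun h => hσ1 (fo_eq_one ho hσ hp h)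
    have hτp : (τ : Equiv.Perm GolayPt) p ≠ p := fun h => hτ1 (fo_eq_one ho hτ hp h)
    obtain ⟨ρ, hρ, h1, h2⟩ := two_trans ho hp (Fo_notMem hσ hp) hp (Fo_notMem hτ hp)
      (Ne.symm hσp) (Ne.symm hτp)
    have h3 : ρ * σ * ρ⁻¹ = τ := by
      apply fo_eq ho (Fo_conj hρ hσ) hτ hp
      rw [coe_mul_apply, coe_mul_apply, inv_apply_eq h1, h2]
    have h4 := hn _ (perm_mem hρ) _ hperm
    rw [← map_mul, ← map_inv, ← map_mul, h3] at h4
    exact h4
  intro g hg
  obtain ⟨d, τ, hd, hτ, rfl⟩ := exists_of_mem_Rh ho hg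
  exact W.mul_mem (hsign d hd) (hperms τ hτ)

end Cfsg.Agent.KFacts.Co1.RIrr
end
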